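import Mathlib

set_option autoImplicit false

/-!
Arithmetic of the numbers `W q i m`: weighted partitions of `m` into parts at least `i`, a part size used
`d` times weighing `c q d`, the number of monic polynomials of degree `d` with nonzero constant term.
-/

namespace CfsgLib.ClassCount

/-- Monic polynomials of degree `d` with nonzero constant term, counted. -/
def c (q d : ℕ) : ℕ := if d = 0 then 1 else (q - 1) * q ^ (d - 1)

/-- Weighted partitions of `m` into parts `≥ i`. -/
def W (q i m : ℕ) : ℕ :=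
  if m = 0 then 1
  else if i = 0 ∨ m < i then 0
  else ∑ d ∈ Finset.range (m / i + 1), c q d * W q (i + 1) (m - d * i)
termination_by m + 1 - i
decreasing_by omega

variable {q : ℕ}

theorem c_zero : c q 0 = 1 := if_pos rfl

theorem c_succ (d : ℕ) : c q (d + 1) = (q - 1) * q ^ d := by simp [c]

theorem c_mul_le (hq : 1 ≤ q) (d k : ℕ) : c q k * c q d ≤ c q (d + k) := by
  rcases d with _ | d
  · simp [c_zero]
  rcases k with _ | k
  · simp [c_zero]
  rw [c_succ, c_succ, show d + 1 + (k + 1) = (d + k + 1) + 1 by omega, c_succ, pow_succ, pow_add]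
  calc (q - 1) * q ^ k * ((q - 1) * q ^ d) = (q - 1) * (q ^ d * q ^ k * (q - 1)) := by ring
    _ ≤ (q - 1) * (q ^ d * q ^ k * q) := Nat.mul_le_mul_left _ (Nat.mul_le_mul_left _ (Nat.sub_le q 1))

theorem W_zero (i : ℕ) : W q i 0 = 1 := by rw [W]; simp

theorem W_eq_zero {i m : ℕ} (hm : m ≠ 0) (h : m < i) : W q i m = 0 := by rw [W]; simp [hm, h]

theorem W_rec {i : ℕ} (hi : 1 ≤ i) (m : ℕ) :
    W q i m = ∑ d ∈ Finset.range (m / i + 1), c q d * W q (i + 1) (m - d * i) := by
  by_cases hm : m = 0
  · subst hm; simp [W_zero, c_zero]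
  by_cases h : m < i
  · rw [W_eq_zero hm h, Nat.div_eq_of_lt h]
    simp [W_eq_zero hm (show m < i + 1 by omega)]
  conv_lhs => rw [W]
  rw [if_neg hm, if_neg (by omega)]

theorem W_self {i : ℕ} (hi : 1 ≤ i) : W q i i = q - 1 := by
  rw [W_rec hi, Nat.div_self (by omega)]
  simp [Finset.sum_range_succ, c_zero, c, W_zero, W_eq_zero (show i ≠ 0 by omega) (show i < i + 1 by omega)]

theorem W_shift {i : ℕ} (hq : 1 ≤ q) (hi : 1 ≤ i) (m k : ℕ) : c q k * W q i m ≤ W q i (m + k * i) := by
  rw [W_rec hi, W_rec hi, Finset.mul_sum, Nat.add_mul_div_right _ _ (by omega : 0 < i),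
    show m / i + k + 1 = k + (m / i + 1) by omega]
  refine le_trans ?_ (le_of_eq (Finset.sum_range_add _ k _).symm)
  refine le_trans (Finset.sum_le_sum fun d _ => ?_) le_add_self
  rw [show m + k * i - (k + d) * i = m - d * i by rw [add_mul]; omega, ← mul_assoc, add_comm k d]
  exact Nat.mul_le_mul_right _ (c_mul_le hq d k)

theorem W_step (hq : 1 ≤ q) : ∀ (N i m : ℕ), 1 ≤ i → m + 1 - i ≤ N → 1 ≤ m →
    (q - 1) * W q i m ≤ q * W q i (m + 1) := by
  intro N
  induction N with
  | zero =>
    intro i m hi hN hm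
    rw [W_eq_zero (show m ≠ 0 by omega) (show m < i by omega)]
    simp
  | succ N ih =>
    intro i m hi hN hm
    by_cases hlt : m < i
    · rw [W_eq_zero (show m ≠ 0 by omega) hlt]; simp
    push Not at hlt
    set D := m / i with hD
    have hD1 : 1 ≤ D := (Nat.one_le_div_iff (by omega)).2 hlt
    have hDm : D * i ≤ m := Nat.div_mul_le_self m i
    have hle : D ≤ (m + 1) / i := Nat.div_le_div_right (by omega)
    rw [W_rec hi m, ← hD, W_rec hi (m + 1), Finset.mul_sum, Finset.mul_sum]
    by_cases hex : D * i = m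
    · obtain ⟨E, hE⟩ : ∃ E, D = E + 1 := ⟨D - 1, by omega⟩
      have hlast : (q - 1) * (c q E * W q (i + 1) (m - E * i)) +
          (q - 1) * (c q D * W q (i + 1) (m - D * i)) ≤
          q * (c q E * W q (i + 1) (m + 1 - E * i)) := by
        have hEm : (E + 1) * i = m := by rw [← hE]; exact hex
        rw [hE, show m - E * i = i by rw [← hEm, add_mul]; omega, show m - (E + 1) * i = 0 by omega,
          W_eq_zero (show i ≠ 0 by omega) (show i < i + 1 by omega), W_zero,
          show m + 1 - E * i = i + 1 by rw [← hEm, add_mul]; omega, W_self (by omega)]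
        simp only [mul_zero, zero_add, mul_one]
        rcases E with _ | E
        · simp [c, Nat.mul_le_mul_right _ (Nat.sub_le q 1)]
        · rw [c_succ, c_succ, pow_succ]
          ring_nf; rfl
      rw [hE, Finset.sum_range_succ, Finset.sum_range_succ, add_assoc]
      rw [hE] at hlast
      have hsum : ∀ d ∈ Finset.range E, (q - 1) * (c q d * W q (i + 1) (m - d * i)) ≤
          q * (c q d * W q (i + 1) (m + 1 - d * i)) := by
        intro d hd
        rw [Finset.mem_range] at hd
        have hdm : (d + 2) * i ≤ m := le_trans (Nat.mul_le_mul_right i (by omega)) hDm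
        rw [add_mul] at hdm
        rw [show m + 1 - d * i = (m - d * i) + 1 by omega, mul_left_comm, mul_left_comm q]
        exact Nat.mul_le_mul_left _ (ih (i + 1) (m - d * i) (by omega) (by omega) (by omega))
      refine le_trans (Nat.add_le_add (Finset.sum_le_sum hsum) hlast) ?_
      rw [← Finset.sum_range_succ (f := fun d => q * (c q d * W q (i + 1) (m + 1 - d * i)))]
      exact Finset.sum_le_sum_of_subset (Finset.range_mono (by omega))
    · refine le_trans (Finset.sum_le_sum fun d hd => ?_)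
        (Finset.sum_le_sum_of_subset (Finset.range_mono (by omega)))
      rw [Finset.mem_range] at hd
      have hdm : d * i ≤ D * i := Nat.mul_le_mul_right i (by omega)
      rw [show m + 1 - d * i = (m - d * i) + 1 by omega, mul_left_comm, mul_left_comm q]
      exact Nat.mul_le_mul_left _ (ih (i + 1) (m - d * i) (by omega) (by omega) (by omega))

theorem W_two_two : W q 2 2 = q - 1 := W_self (by norm_num)

theorem W_two_one : W q 2 1 = 0 := W_eq_zero one_ne_zero (by norm_num)

theorem W_two_three : W q 2 3 = q - 1 := by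
  rw [W_rec (by norm_num)]
  simp [Finset.sum_range_succ, c, W_self, W_eq_zero]

theorem W_two_four : W q 2 4 = (q - 1) + (q - 1) * q := by
  rw [W_rec (by norm_num), show (4 : ℕ) / 2 + 1 = 3 from rfl]
  simp only [Finset.sum_range_succ, Finset.sum_range_zero]
  rw [W_rec (i := 2 + 1) (by norm_num) (4 - 0 * 2)]
  simp [Finset.sum_range_succ, c, W_zero, W_self, W_eq_zero]

theorem W_two_five : W q 2 5 = (q - 1) + (q - 1) * (q - 1) := by
  rw [W_rec (by norm_num), show (5 : ℕ) / 2 + 1 = 3 from rfl]
  simp only [Finset.sum_range_succ, Finset.sum_range_zero]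
  rw [W_rec (i := 2 + 1) (by norm_num) (5 - 0 * 2)]
  simp only [show (5 - 0 * 2) / (2 + 1) + 1 = 2 from rfl, Finset.sum_range_succ, Finset.sum_range_zero]
  rw [W_rec (i := 2 + 1 + 1) (by norm_num) (5 - 0 * 2 - 0 * (2 + 1))]
  simp [Finset.sum_range_succ, c, W_zero, W_self, W_eq_zero]

/-- Bound on `|GL_n|`-classes by data: sum over the degree of the polynomial of exponent one. -/
def totalBound (q n : ℕ) : ℕ := ∑ a ∈ Finset.range (n + 1), c q a * W q 2 (n - a)

/-- The same with prescribed determinant. -/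
def detBound (q n : ℕ) : ℕ := (∑ a ∈ Finset.range n, q ^ a * W q 2 (n - 1 - a)) + W q 2 n

/-- Partial sums of `∑ W q i j q^{-j}`. -/
def S (q i M : ℕ) : ℚ := ∑ j ∈ Finset.range (M + 1), (W q i j : ℚ) / (q : ℚ) ^ j

theorem S_rec (hq : 1 ≤ q) {i : ℕ} (hi : 1 ≤ i) (M : ℕ) :
    S q i M = ∑ d ∈ Finset.range (M / i + 1), (c q d : ℚ) / (q : ℚ) ^ (d * i) * S q (i + 1) (M - d * i) := by
  have hq0 : (q : ℚ) ≠ 0 := by exact_mod_cast (by omega : q ≠ 0)
  unfold S
  simp only [Finset.mul_sum]
  rw [Finset.sum_sigma']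
  conv_lhs =>
    arg 2; ext j
    rw [W_rec hi, Nat.cast_sum, Finset.sum_div]
  rw [Finset.sum_sigma']
  refine Finset.sum_nbij' (fun x => ⟨x.2, x.1 - x.2 * i⟩) (fun y => ⟨y.2 + y.1 * i, y.1⟩) ?_ ?_ ?_ ?_ ?_
  · rintro ⟨j, d⟩ h
    simp only [Finset.coe_sigma, Set.mem_sigma_iff, Finset.mem_sigma, Finset.mem_range, Finset.coe_range, Set.mem_Iio] at h ⊢
    have h1 : j / i ≤ M / i := Nat.div_le_div_right (by omega)
    have h2 : d * i ≤ j := le_trans (Nat.mul_le_mul_right i (show d ≤ j / i by omega)) (Nat.div_mul_le_self j i)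
    omega
  · rintro ⟨d, l⟩ h
    simp only [Finset.coe_sigma, Set.mem_sigma_iff, Finset.mem_sigma, Finset.mem_range, Finset.coe_range, Set.mem_Iio] at h ⊢
    have h2 : d * i ≤ M := le_trans (Nat.mul_le_mul_right i (show d ≤ M / i by omega)) (Nat.div_mul_le_self M i)
    have h3 : d ≤ (l + d * i) / i := by
      rw [Nat.add_mul_div_right _ _ (by omega : 0 < i)]; exact Nat.le_add_left _ _
    omega
  · rintro ⟨j, d⟩ h
    simp only [Finset.coe_sigma, Set.mem_sigma_iff, Finset.mem_sigma, Finset.mem_range, Finset.coe_range, Set.mem_Iio] at h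
    have h2 : d * i ≤ j := le_trans (Nat.mul_le_mul_right i (show d ≤ j / i by omega)) (Nat.div_mul_le_self j i)
    simp [Nat.sub_add_cancel h2]
  · rintro ⟨d, l⟩ h
    simp
  · rintro ⟨j, d⟩ h
    simp only [Finset.mem_sigma, Finset.mem_range] at h
    have h2 : d * i ≤ j := le_trans (Nat.mul_le_mul_right i (show d ≤ j / i by omega)) (Nat.div_mul_le_self j i)
    simp only [Nat.cast_mul]
    rw [div_mul_div_comm, ← pow_add, Nat.add_sub_cancel' h2]

theorem S_bound (hq : 2 ≤ q) : ∀ (N i M : ℕ), 2 ≤ i → M + 1 - i ≤ N →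
    S q i M * (1 - (1 / q : ℚ) ^ (i - 1)) ≤ 1 := by
  intro N
  have hq' : (2 : ℚ) ≤ q := by exact_mod_cast hq
  have hx0 : (0 : ℚ) ≤ 1 / q := by positivity
  have hx1 : (1 / q : ℚ) < 1 := by rw [div_lt_one (by positivity)]; linarith
  have hbase : ∀ i M : ℕ, 2 ≤ i → M < i → S q i M * (1 - (1 / q : ℚ) ^ (i - 1)) ≤ 1 := by
    intro i M hi hM
    have : S q i M = 1 := by
      unfold S
      rw [Finset.sum_eq_single 0]
      · simp [W_zero]
      · intro j hj hj0
        rw [Finset.mem_range] at hj
        simp [W_eq_zero (q := q) hj0 (show j < i by omega)]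
      · simp
    rw [this, one_mul]
    linarith [pow_nonneg hx0 (i - 1)]
  induction N with
  | zero => intro i M hi hN; exact hbase i M hi (by omega)
  | succ N ih =>
    intro i M hi hN
    by_cases hlt : M < i
    · exact hbase i M hi hlt
    push Not at hlt
    set x : ℚ := 1 / q with hx
    set y : ℚ := x ^ (i - 1) with hy
    have hxi : x ^ i = x * y := by rw [hy, ← pow_succ', Nat.sub_add_cancel (by omega)]
    have hy1 : y < 1 := pow_lt_one₀ hx0 hx1 (by omega)
    have hy0 : 0 ≤ y := pow_nonneg hx0 _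
    have hxy : x * y < 1 := by nlinarith
    rw [S_rec (by omega) (show 1 ≤ i by omega), Finset.sum_mul]
    set D := M / i
    have hterm : ∀ d ∈ Finset.range (D + 1),
        (c q d : ℚ) / (q : ℚ) ^ (d * i) * S q (i + 1) (M - d * i) * (1 - y) ≤
          (if d = 0 then 1 else (1 - x) * y ^ d) * ((1 - y) / (1 - x * y)) := by
      intro d hd
      rw [Finset.mem_range] at hd
      have h1 := ih (i + 1) (M - d * i) (by omega) (by omega)
      rw [Nat.add_sub_cancel, hxi] at h1
      have hcd : (c q d : ℚ) / (q : ℚ) ^ (d * i) = if d = 0 then 1 else (1 - x) * y ^ d := by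
        rcases d with _ | d
        · simp [c_zero]
        · rw [if_neg (by omega), c_succ, Nat.cast_mul, Nat.cast_sub (by omega), Nat.cast_pow, Nat.cast_one, hy,
            ← pow_mul, hx, one_div, inv_pow]
          have : (d + 1) * i = (i - 1) * (d + 1) + (d + 1) := by
            obtain ⟨j, rfl⟩ : ∃ j, i = j + 1 := ⟨i - 1, by omega⟩
            simp; ring
          rw [this, pow_add, pow_succ (q : ℚ) d]
          field_simp
      rw [hcd, mul_assoc]
      refine mul_le_mul_of_nonneg_left ?_ ?_
      · rw [le_div_iff₀ (by linarith)]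
        nlinarith
      · split_ifs
        · norm_num
        · exact mul_nonneg (by linarith) (pow_nonneg hy0 _)
    refine (Finset.sum_le_sum hterm).trans ?_
    rw [← Finset.sum_mul, Finset.sum_range_succ']
    simp only [Nat.succ_ne_zero, if_false, if_true]
    have hgeom : (∑ k ∈ Finset.range D, (1 - x) * y ^ (k + 1)) * (1 - y) ≤ (1 - x) * y := by
      have hg : (∑ k ∈ Finset.range D, y ^ k) * (1 - y) = 1 - y ^ D := geom_sum_mul_neg y D
      have : (∑ k ∈ Finset.range D, (1 - x) * y ^ (k + 1)) = (1 - x) * y * ∑ k ∈ Finset.range D, y ^ k := by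
        rw [Finset.mul_sum]; exact Finset.sum_congr rfl fun k _ => by ring
      rw [this, mul_assoc, hg]
      exact mul_le_of_le_one_right (mul_nonneg (by linarith) hy0) (by linarith [pow_nonneg hy0 D])
    rw [mul_div_assoc', div_le_one (by linarith), add_mul]
    nlinarith

theorem S_two_mul_le (hq : 2 ≤ q) (M : ℕ) : S q 2 M * (1 - 1 / q) ≤ 1 := by
  have := S_bound hq (M + 1) 2 M le_rfl (by omega)
  simpa using this

end CfsgLib.ClassCount
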