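import Cfsg.Agent.ClassCount.Arith

set_option autoImplicit false

/-!
`totalBound q n ≤ q^n` and bounds on `detBound q n`.
-/

namespace CfsgLib.ClassCount

variable {q : ℕ}

theorem W_shift_succ {i : ℕ} (hq : 1 ≤ q) (hi : 1 ≤ i) (m k : ℕ) :
    c q k * W q i m ≤ W q i (m + k * (i + 1)) := by
  rw [W_rec hi, W_rec hi, Finset.mul_sum]
  refine le_trans (Finset.sum_le_sum fun d hd => ?_)
    (Finset.sum_le_sum_of_subset (Finset.range_mono (Nat.add_le_add_right (Nat.div_le_div_right (Nat.le_add_right _ _)) 1)))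
  rw [Finset.mem_range] at hd
  have h2 : d * i ≤ m := le_trans (Nat.mul_le_mul_right i (show d ≤ m / i by omega)) (Nat.div_mul_le_self m i)
  rw [mul_left_comm, Nat.sub_add_comm h2]
  exact Nat.mul_le_mul_left _ (W_shift hq (by omega) _ k)

theorem W_two_add_four (m : ℕ) : 3 * W 2 2 m ≤ W 2 2 (m + 4) := by
  rw [W_rec (by norm_num), W_rec (by norm_num),
    show (m + 4) / 2 + 1 = (m / 2 + 2) + 1 by omega, Finset.mul_sum]
  rw [Finset.sum_range_succ' _ (m / 2 + 2), Finset.sum_range_succ' _ (m / 2 + 1), Finset.sum_range_succ' _ (m / 2),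
    Finset.sum_range_succ' _ (m / 2)]
  have h0 : W 2 3 m ≤ W 2 3 (m + 4) := by simpa [c] using W_shift_succ (q := 2) (i := 3) (by norm_num) (by norm_num) m 1
  have hterm : ∀ d ∈ Finset.range (m / 2), 3 * (c 2 (d + 1) * W 2 (2 + 1) (m - (d + 1) * 2)) ≤
      c 2 (d + 1 + 1 + 1) * W 2 (2 + 1) (m + 4 - (d + 1 + 1 + 1) * 2) := by
    intro d hd
    rw [Finset.mem_range] at hd
    rw [show m + 4 - (d + 1 + 1 + 1) * 2 = m - (d + 1) * 2 by omega, ← mul_assoc]
    refine Nat.mul_le_mul_right _ ?_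
    rw [c_succ, c_succ, pow_succ, pow_succ]
    omega
  refine le_trans (Nat.add_le_add_right (Finset.sum_le_sum hterm) _) ?_
  simp only [c, Nat.zero_mul, Nat.sub_zero, if_pos, one_mul]
  norm_num
  omega

/-- The terms of `S q 2`. -/
def a (q j : ℕ) : ℚ := (W q 2 j : ℚ) / (q : ℚ) ^ j

theorem a_nonneg (j : ℕ) : 0 ≤ a q j := by unfold a; positivity

theorem S_eq_sum (M : ℕ) : S q 2 M = ∑ j ∈ Finset.range (M + 1), a q j := rfl

theorem a_le_of_W (hq : 1 ≤ q) {i j : ℕ} (k m : ℕ) (h : k * W q 2 i ≤ m * W q 2 j) (hij : i ≤ j) :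
    (k : ℚ) * a q i ≤ m * (q : ℚ) ^ (j - i) * a q j := by
  have hq0 : (0 : ℚ) < q := by exact_mod_cast hq
  have h' : (k : ℚ) * W q 2 i ≤ m * W q 2 j := by exact_mod_cast h
  unfold a
  obtain ⟨d, rfl⟩ : ∃ d, j = i + d := ⟨j - i, by omega⟩
  rw [Nat.add_sub_cancel_left, pow_add]
  field_simp
  exact h'

theorem totalBound_eq (hq : 1 ≤ q) (n : ℕ) :
    (totalBound q n : ℚ) = (q : ℚ) ^ n * ((1 - 1 / q) * S q 2 n + 1 / q * a q n) := by
  have hq0 : (q : ℚ) ≠ 0 := by exact_mod_cast (by omega : q ≠ 0)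
  rw [totalBound, Finset.sum_range_succ', c_zero, one_mul, Nat.sub_zero, S_eq_sum, Finset.sum_range_succ]
  rw [← Finset.sum_range_reflect (fun j => a q j)]
  push_cast
  simp only [mul_add, Finset.mul_sum]
  have e : ∀ k ∈ Finset.range n, (c q (k + 1) : ℚ) * (W q 2 (n - (k + 1)) : ℚ) =
      (q : ℚ) ^ n * ((1 - 1 / q) * a q (n - 1 - k)) := by
    intro k hk
    rw [Finset.mem_range] at hk
    rw [a, c_succ, show n - (k + 1) = n - 1 - k by omega]
    push_cast [Nat.cast_sub hq]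
    have hn : (q : ℚ) ^ n = q ^ (n - 1 - k) * q ^ k * q := by
      rw [← pow_add, ← pow_succ]; congr 1; omega
    rw [hn]
    field_simp
  rw [Finset.sum_congr rfl e, a]
  field_simp
  ring

theorem detBound_eq (hq : 1 ≤ q) (n : ℕ) :
    (detBound q n : ℚ) = (q : ℚ) ^ n * (1 / q * S q 2 n + (1 - 1 / q) * a q n) := by
  have hq0 : (q : ℚ) ≠ 0 := by exact_mod_cast (by omega : q ≠ 0)
  rw [detBound, S_eq_sum, Finset.sum_range_succ]
  rw [← Finset.sum_range_reflect (fun j => a q j)]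
  push_cast
  simp only [mul_add, Finset.mul_sum]
  have e : ∀ k ∈ Finset.range n, (q : ℚ) ^ k * (W q 2 (n - 1 - k) : ℚ) =
      (q : ℚ) ^ n * (1 / q * a q (n - 1 - k)) := by
    intro k hk
    rw [Finset.mem_range] at hk
    rw [a]
    have hn : (q : ℚ) ^ n = q ^ (n - 1 - k) * q ^ k * q := by
      rw [← pow_add, ← pow_succ]; congr 1; omega
    rw [hn]
    field_simp
  rw [Finset.sum_congr rfl e, a]
  field_simp
  ring

theorem S_add (n k : ℕ) : S q 2 (n + k) = S q 2 n + ∑ j ∈ Finset.range k, a q (n + 1 + j) := by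
  rw [S_eq_sum, S_eq_sum, show n + k + 1 = n + 1 + k by omega, Finset.sum_range_add]

theorem totalBound_le_of_three (hq : 3 ≤ q) {n : ℕ} (hn : 1 ≤ n) : totalBound q n ≤ q ^ n := by
  have hq' : (3 : ℚ) ≤ q := by exact_mod_cast hq
  have hb := S_two_mul_le (show 2 ≤ q by omega) (n + 4)
  rw [S_add] at hb
  simp only [Finset.sum_range_succ, Finset.sum_range_zero, zero_add, Nat.add_assoc] at hb
  have h1 := a_le_of_W (q := q) (by omega) (q - 1) q
    (W_step (by omega) _ 2 n (by norm_num) le_rfl hn) (Nat.le_add_right n 1)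
  have h2 := a_le_of_W (q := q) (by omega) (q - 1) 1 (i := n) (j := n + 2)
    (by simpa [c] using W_shift (q := q) (i := 2) (by omega) (by norm_num) n 1) (by omega)
  have h3 := a_le_of_W (q := q) (by omega) (q - 1) 1 (i := n + 1) (j := n + 3)
    (by simpa [c] using W_shift (q := q) (i := 2) (by omega) (by norm_num) (n + 1) 1) (by omega)
  have h4 := a_le_of_W (q := q) (by omega) ((q - 1) * q) 1 (i := n) (j := n + 4)
    (by simpa [c] using W_shift (q := q) (i := 2) (by omega) (by norm_num) n 2) (by omega)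
  have h0 : (0 : ℚ) ≤ a q n := a_nonneg n
  rw [Nat.add_sub_cancel_left] at h1 h2 h4
  rw [show n + 3 - (n + 1) = 2 by omega] at h3
  push_cast [Nat.cast_sub (show 1 ≤ q by omega)] at h1 h2 h3 h4
  simp only [pow_one, one_mul] at h1 h2 h3 h4
  have hkey : (1 - 1 / (q : ℚ)) * S q 2 n + 1 / q * a q n ≤ 1 := by
    set A := a q n
    set B := a q (n + 1)
    set C := a q (n + 2)
    set D := a q (n + 3)
    set x : ℚ := 1 / q with hx
    have hxq : x * q = 1 := by rw [hx]; field_simp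
    have hx3 : x ≤ 1 / 3 := one_div_le_one_div_of_le (by norm_num) hq'
    have hx0 : 0 < x := by positivity
    have e1 : (1 - x) * x * A ≤ B := by
      calc (1 - x) * x * A = x * x * ((q - 1) * A) := by linear_combination -x * A * hxq
        _ ≤ x * x * (q * q * B) := by gcongr
        _ = B := by linear_combination B * (x * q + 1) * hxq
    have e2 : (1 - x) * x * A ≤ C := by
      calc (1 - x) * x * A = x * x * ((q - 1) * A) := by linear_combination -x * A * hxq
        _ ≤ x * x * ((q : ℚ) ^ 2 * C) := by gcongr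
        _ = C := by linear_combination C * (x * q + 1) * hxq
    have e3 : (1 - x) * x * B ≤ D := by
      calc (1 - x) * x * B = x * x * ((q - 1) * B) := by linear_combination -x * B * hxq
        _ ≤ x * x * ((q : ℚ) ^ 2 * D) := by gcongr
        _ = D := by linear_combination D * (x * q + 1) * hxq
    have e3' : (1 - x) * x * ((1 - x) * x * A) ≤ D :=
      le_trans (mul_le_mul_of_nonneg_left e1 (mul_nonneg (by linarith) hx0.le)) e3
    set E := a q (n + 4)
    have e5 : (1 - x) * x * (x * A) ≤ E := by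
      calc (1 - x) * x * (x * A) = x ^ 4 * ((q - 1) * q * A) := by
            rw [show x ^ 4 * (((q : ℚ) - 1) * q * A) = (x * q - x) * (x * q) * (x * (x * A)) by ring, hxq]
            ring
        _ ≤ x ^ 4 * ((q : ℚ) ^ 4 * E) := by gcongr
        _ = E := by
            rw [← mul_assoc, ← mul_pow, hxq, one_pow, one_mul]
    have e4 : x * A ≤ (1 - x) * ((1 - x) * x * A) * (2 + x + x * (1 - x)) := by
      have h5 : 1 ≤ (1 - x) * (1 - x) * (2 + x + x * (1 - x)) := by
        rcases le_or_gt x (1 / 4) with h | h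
        · have h5a : (9 / 16 : ℚ) ≤ (1 - x) * (1 - x) := by nlinarith
          nlinarith [mul_le_mul_of_nonneg_left (show (2 : ℚ) ≤ 2 + x + x * (1 - x) by nlinarith) (mul_self_nonneg (1 - x))]
        · have h5a : (4 / 9 : ℚ) ≤ (1 - x) * (1 - x) := by nlinarith
          nlinarith [mul_le_mul_of_nonneg_left (show (12 / 5 : ℚ) ≤ 2 + x + x * (1 - x) by nlinarith) (mul_self_nonneg (1 - x))]
      nlinarith [mul_nonneg hx0.le h0]
    nlinarith [mul_le_mul_of_nonneg_left (add_le_add (add_le_add (add_le_add e1 e2) e3') e5) (show (0:ℚ) ≤ 1 - x by linarith)]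
  have := totalBound_eq (show 1 ≤ q by omega) n
  have h' : (totalBound q n : ℚ) ≤ (q : ℚ) ^ n := by
    rw [this]; exact mul_le_of_le_one_right (by positivity) hkey
  exact_mod_cast h'

theorem tail_even (n : ℕ) : ∀ K : ℕ, (1 / 8 - (1 / 2) ^ (K + 3)) * a 2 n ≤
    ∑ k ∈ Finset.range K, a 2 (n + 2 * (k + 3)) := by
  intro K
  induction K with
  | zero => norm_num
  | succ K ih =>
    rw [Finset.sum_range_succ]
    have h := a_le_of_W (q := 2) (by norm_num) (c 2 (K + 3)) 1 (i := n) (j := n + 2 * (K + 3))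
      (by simpa [mul_comm 2 (K + 3)] using W_shift (q := 2) (i := 2) (by norm_num) (by norm_num) n (K + 3))
      (by omega)
    rw [Nat.add_sub_cancel_left, show K + 3 = (K + 2) + 1 from rfl, c_succ, pow_mul] at h
    push_cast at h
    norm_num at h
    have e : ((1 : ℚ) / 2) ^ (K + 3) - (1 / 2) ^ (K + 1 + 3) = (1 / 2) ^ (K + 4) := by ring
    have e2 : ((1 : ℚ) / 2) ^ (K + 4) * a 2 n ≤ a 2 (n + 2 * (K + 3)) := by
      have h' : (2 : ℚ) ^ (K + 2) * a 2 n ≤ 4 ^ (K + 2 + 1) * a 2 (n + 2 * (K + 3)) := h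
      calc ((1 : ℚ) / 2) ^ (K + 4) * a 2 n = (1 / 2) ^ (2 * (K + 3)) * (2 ^ (K + 2) * a 2 n) := by
            rw [← mul_assoc]; congr 1
            rw [one_div_pow, one_div_pow]; field_simp; ring
        _ ≤ (1 / 2) ^ (2 * (K + 3)) * (4 ^ (K + 2 + 1) * a 2 (n + 2 * (K + 3))) :=
            mul_le_mul_of_nonneg_left h' (by positivity)
        _ = _ := by
            rw [← mul_assoc, pow_mul, show K + 2 + 1 = K + 3 from rfl, ← mul_pow]
            norm_num
    linarith [e, e2, ih, show ((1 : ℚ) / 2) ^ (K + 4) * a 2 n = (1 / 2) ^ (K + 3) * a 2 n - (1 / 2) ^ (K + 1 + 3) * a 2 n by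
      rw [← e]; ring]

theorem tail_odd (n : ℕ) : ∀ K : ℕ, (1 / 16 - (1 / 2) ^ (K + 4)) * a 2 n ≤
    ∑ k ∈ Finset.range K, a 2 (n + 2 * k + 5) := by
  intro K
  induction K with
  | zero => norm_num
  | succ K ih =>
    rw [Finset.sum_range_succ]
    have h0 : W 2 2 n ≤ W 2 2 (n + 3) := by
      simpa [c] using W_shift_succ (q := 2) (i := 2) (by norm_num) (by norm_num) n 1
    have h1 := W_shift (q := 2) (i := 2) (by norm_num) (by norm_num) (n + 3) (K + 1)
    have h := a_le_of_W (q := 2) (by norm_num) (c 2 (K + 1)) 1 (i := n) (j := n + 2 * K + 5)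
      (by rw [one_mul, show n + 2 * K + 5 = n + 3 + (K + 1) * 2 by omega]
          exact le_trans (Nat.mul_le_mul_left _ h0) h1) (by omega)
    rw [show n + 2 * K + 5 - n = 2 * K + 5 by omega, c_succ] at h
    push_cast at h
    norm_num at h
    have e : ((1 : ℚ) / 2) ^ (K + 4) * a 2 n = (1 / 2) ^ (K + 4 + 1) * a 2 n + (1 / 2) ^ (K + 5) * a 2 n := by ring
    have e2 : ((1 : ℚ) / 2) ^ (K + 5) * a 2 n ≤ a 2 (n + 2 * K + 5) := by
      calc ((1 : ℚ) / 2) ^ (K + 5) * a 2 n = (1 / 2) ^ (2 * K + 5) * (2 ^ K * a 2 n) := by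
            rw [← mul_assoc]; congr 1
            rw [one_div_pow, one_div_pow]; field_simp; ring
        _ ≤ (1 / 2) ^ (2 * K + 5) * (2 ^ (2 * K + 5) * a 2 (n + 2 * K + 5)) :=
            mul_le_mul_of_nonneg_left h (by positivity)
        _ = _ := by rw [← mul_assoc, ← mul_pow]; norm_num
    rw [show K + 1 + 4 = K + 5 from rfl]
    linarith

theorem sum_pairs (f : ℕ → ℚ) (K : ℕ) : ∑ j ∈ Finset.range (2 * K + 1 + 4), f j =
    f 0 + f 1 + f 2 + f 3 + (∑ k ∈ Finset.range K, f (2 * k + 5)) + (∑ k ∈ Finset.range K, f (2 * k + 4)) + f (2 * K + 4) := by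
  induction K with
  | zero => simp [Finset.sum_range_succ]
  | succ K ih =>
    rw [show 2 * (K + 1) + 1 + 4 = (2 * K + 1 + 4) + 1 + 1 by omega, Finset.sum_range_succ, Finset.sum_range_succ, ih,
      Finset.sum_range_succ, Finset.sum_range_succ, show 2 * (K + 1) + 4 = 2 * K + 1 + 4 + 1 by omega]
    ring

theorem totalBound_le_two {n : ℕ} (hn : 1 ≤ n) : totalBound 2 n ≤ 2 ^ n := by
  set K := W 2 2 n with hK
  have hb := S_two_mul_le (q := 2) le_rfl (n + (2 * K + 1 + 4))
  rw [S_add, sum_pairs] at hb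
  have h1 := a_le_of_W (q := 2) (by norm_num) 1 2 (by simpa using W_step (q := 2) (by norm_num) _ 2 n (by norm_num) le_rfl hn) (Nat.le_add_right n 1)
  have h2 := a_le_of_W (q := 2) (by norm_num) 1 1 (i := n) (j := n + 2)
    (by simpa [c] using W_shift (q := 2) (i := 2) (by norm_num) (by norm_num) n 1) (by omega)
  have h3 := a_le_of_W (q := 2) (by norm_num) 1 1 (i := n) (j := n + 3)
    (by simpa [c] using W_shift_succ (q := 2) (i := 2) (by norm_num) (by norm_num) n 1) (by omega)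
  have h4 := a_le_of_W (q := 2) (by norm_num) 3 1 (i := n) (j := n + 4) (by simpa using W_two_add_four n) (by omega)
  rw [Nat.add_sub_cancel_left] at h1 h2 h3 h4
  norm_num at h1 h2 h3 h4
  have hodd := tail_odd n K
  have heven := tail_even n K
  have ho : ∀ k, n + 1 + (2 * k + 4) = n + 2 * k + 5 := fun k => by omega
  have he : ∀ k, n + 1 + (2 * k + 5) = n + 2 * (k + 3) := fun k => by omega
  simp only [ho, he, Nat.cast_ofNat, show n + 1 + 0 = n + 1 by omega, show n + 1 + 1 = n + 2 by omega, show n + 1 + 2 = n + 3 by omega,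
    show n + 1 + 3 = n + 4 by omega] at hb
  have hlast : 0 ≤ a 2 (n + 2 * K + 5) := a_nonneg _
  have h0 : 0 ≤ a 2 n := a_nonneg n
  have hsmall : (2 : ℚ) ^ n * (((1 : ℚ) / 2) ^ (K + 2) * a 2 n) < 1 := by
    have hlt : (W 2 2 n : ℚ) < 2 ^ (K + 2) := by
      have : K < 2 ^ (K + 2) := lt_trans Nat.lt_two_pow_self (Nat.pow_lt_pow_right one_lt_two (by omega))
      exact_mod_cast this
    rw [a, Nat.cast_ofNat, one_div_pow]
    field_simp
    linarith
  have hkey : (1 - 1 / (2 : ℚ)) * S 2 2 n + 1 / 2 * a 2 n ≤ 1 + ((1 : ℚ) / 2) ^ (K + 2) * a 2 n := by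
    have : ((1 : ℚ) / 2) ^ (K + 4) * a 2 n ≤ (1 / 2) ^ (K + 3) * a 2 n := by
      refine mul_le_mul_of_nonneg_right ?_ h0
      exact pow_le_pow_of_le_one (by norm_num) (by norm_num) (by omega)
    have e : ((1 : ℚ) / 2) ^ (K + 2) = (1 / 2) ^ (K + 3) + (1 / 2) ^ (K + 3) := by ring
    rw [e]
    linarith [mul_nonneg (pow_nonneg (show (0 : ℚ) ≤ 1 / 2 by norm_num) (K + 3)) h0,
      mul_nonneg (pow_nonneg (show (0 : ℚ) ≤ 1 / 2 by norm_num) (K + 4)) h0]
  have heq := totalBound_eq (q := 2) (by norm_num) n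
  push_cast at heq
  have hlt : (totalBound 2 n : ℚ) < ((2 ^ n + 1 : ℕ) : ℚ) := by
    rw [heq]; push_cast
    calc _ ≤ (2 : ℚ) ^ n * (1 + ((1 : ℚ) / 2) ^ (K + 2) * a 2 n) := mul_le_mul_of_nonneg_left hkey (by positivity)
      _ < _ := by linarith
  have : totalBound 2 n < 2 ^ n + 1 := by exact_mod_cast hlt
  omega

theorem totalBound_le (hq : 2 ≤ q) (n : ℕ) : totalBound q n ≤ q ^ n := by
  rcases Nat.eq_zero_or_pos n with rfl | hn
  · simp [totalBound, c_zero, W_zero]
  rcases eq_or_lt_of_le hq with rfl | h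
  · exact totalBound_le_two hn
  · exact totalBound_le_of_three h hn

theorem detBound_one : detBound q 1 = 1 := by
  simp [detBound, Finset.sum_range_succ, W_zero, W_two_one]

theorem detBound_two : detBound q 2 = q + (q - 1) := by
  simp [detBound, Finset.sum_range_succ, W_zero, W_two_one, W_two_two]

theorem detBound_three : detBound q 3 = q ^ 2 + ((q - 1) + (q - 1)) := by
  simp [detBound, Finset.sum_range_succ, W_zero, W_two_one, W_two_two, W_two_three]
  omega

theorem detBound_four : detBound q 4 = q ^ 3 + q * (q - 1) + (q - 1) + ((q - 1) + (q - 1) * q) := by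
  simp [detBound, Finset.sum_range_succ, W_zero, W_two_one, W_two_two, W_two_three, W_two_four]
  ring

theorem detBound_two_eq_totalBound (n : ℕ) : detBound 2 n = totalBound 2 n := by
  rw [detBound, totalBound, Finset.sum_range_succ', c_zero, one_mul, Nat.sub_zero]
  congr 1
  refine Finset.sum_congr rfl fun k _ => ?_
  rw [c_succ, Nat.sub_add_eq n k 1, Nat.sub_right_comm n 1 k]
  simp

theorem detBound_le (hq : 2 ≤ q) {n : ℕ} (hn : 5 ≤ n) : detBound q n ≤ q ^ (n - 1) + 2 * q ^ (n - 2) := by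
  rcases eq_or_lt_of_le hq with rfl | h3
  · rw [detBound_two_eq_totalBound]
    refine (totalBound_le le_rfl n).trans (le_of_eq ?_)
    obtain ⟨m, rfl⟩ : ∃ m, n = m + 2 := ⟨n - 2, by omega⟩
    simp [pow_succ]; ring
  have hq' : (3 : ℚ) ≤ q := by exact_mod_cast h3
  set x : ℚ := 1 / q with hx
  have hxq : x * q = 1 := by rw [hx]; field_simp
  have hx3 : x ≤ 1 / 3 := one_div_le_one_div_of_le (by norm_num) hq'
  have hx0 : 0 < x := by positivity
  have hS := S_two_mul_le hq n
  have v0 : a q 0 = 1 := by simp [a, W_zero]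
  have v2 : a q 2 = (1 - x) * x := by
    rw [a, W_two_two, hx]; push_cast [Nat.cast_sub (show 1 ≤ q by omega)]; field_simp
  have v3 : a q 3 = (1 - x) * x ^ 2 := by
    rw [a, W_two_three, hx]; push_cast [Nat.cast_sub (show 1 ≤ q by omega)]; field_simp
  have v4 : a q 4 = (1 - x) * x ^ 3 * (1 + q) := by
    rw [a, W_two_four, hx]; push_cast [Nat.cast_sub (show 1 ≤ q by omega)]; field_simp
  have v5 : a q 5 = (1 - x) * x ^ 3 := by
    rw [a, W_two_five, hx]; push_cast [Nat.cast_sub (show 1 ≤ q by omega)]; field_simp; ring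
  have v4' : a q 4 = (1 - x) * (x ^ 3 + x ^ 2) := by rw [v4]; linear_combination (1 - x) * x ^ 2 * hxq
  have hkey : x * S q 2 n + (1 - x) * a q n ≤ x + 2 * x ^ 2 := by
    rw [show 1 / (q : ℚ) = x from rfl] at hS
    rcases Nat.lt_or_ge n 6 with hlt | h6
    · obtain rfl : n = 5 := by omega
      have e : S q 2 5 * (1 - x) ≤ 1 := hS
      rw [v5]
      have h5 : (1 - x) ^ 3 * x ^ 3 ≤ x ^ 2 * (1 - 2 * x) := by
        have h5a : (1 - x) ^ 3 ≤ 1 := pow_le_one₀ (by linarith) (by linarith)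
        nlinarith [mul_le_mul_of_nonneg_right h5a (pow_nonneg hx0.le 3), mul_pos hx0 hx0]
      refine le_of_mul_le_mul_right ?_ (show (0 : ℚ) < 1 - x by linarith)
      nlinarith [mul_le_mul_of_nonneg_left e hx0.le]
    · obtain ⟨k, rfl⟩ : ∃ k, n = 5 + (k + 1) := ⟨n - 6, by omega⟩
      have hrest : 1 + a q 2 + a q 3 + a q 4 + a q 5 + a q (5 + (k + 1)) ≤ S q 2 (5 + (k + 1)) := by
        rw [S_add, Finset.sum_range_succ, show 5 + 1 + k = 5 + (k + 1) by omega, S_eq_sum]
        have : 0 ≤ ∑ j ∈ Finset.range k, a q (5 + 1 + j) := Finset.sum_nonneg fun j _ => a_nonneg _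
        simp only [Finset.sum_range_succ, Finset.sum_range_zero, v0]
        have := a_nonneg (q := q) 1
        linarith
      rw [v2, v3, v4', v5] at hrest
      set T := S q 2 (5 + (k + 1))
      set A := a q (5 + (k + 1))
      have hA : (1 - x) * A ≤ (1 - x) * T - (1 - x) * (1 + (1 - x) * (x + 2 * x ^ 2 + 2 * x ^ 3)) := by
        nlinarith
      have hpoly : 1 ≤ (1 - x) ^ 2 * (1 + (1 - x) * (x + 2 * x ^ 2 + 2 * x ^ 3)) + (x + 2 * x ^ 2) * (1 - x) := by
        have hf : 0 ≤ 1 - 3 * x - x ^ 2 + 4 * x ^ 3 - 2 * x ^ 4 := by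
          nlinarith [mul_nonneg (sub_nonneg.2 hx3) hx0.le, mul_nonneg (sub_nonneg.2 hx3) (sq_nonneg x),
            mul_nonneg (mul_nonneg (sub_nonneg.2 hx3) (sq_nonneg x)) hx0.le]
        nlinarith [mul_nonneg (sq_nonneg x) hf]
      refine le_of_mul_le_mul_right ?_ (show (0 : ℚ) < 1 - x by linarith)
      nlinarith [mul_le_mul_of_nonneg_left hA (show (0 : ℚ) ≤ 1 - x by linarith), hS, hpoly]
  have heq := detBound_eq (show 1 ≤ q by omega) n
  have h' : (detBound q n : ℚ) ≤ ((q ^ (n - 1) + 2 * q ^ (n - 2) : ℕ) : ℚ) := by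
    rw [heq]
    push_cast
    have hp1 : (q : ℚ) ^ (n - 1) = q ^ n * x := by
      rw [show (q : ℚ) ^ n = q ^ (n - 1) * q by rw [← pow_succ]; congr 1; omega, mul_assoc, mul_comm (q : ℚ) x, hxq, mul_one]
    have hp2 : (q : ℚ) ^ (n - 2) = q ^ n * x ^ 2 := by
      rw [show (q : ℚ) ^ n = q ^ (n - 2) * q ^ 2 by rw [← pow_add]; congr 1; omega, mul_assoc, ← mul_pow, mul_comm (q : ℚ) x, hxq, one_pow, mul_one]
    rw [hp1, hp2]
    have := mul_le_mul_of_nonneg_left hkey (pow_nonneg (show (0 : ℚ) ≤ q by positivity) n)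
    linarith
  exact_mod_cast h'

theorem detBound_le_two_mul (hq : 2 ≤ q) {m : ℕ} (hm : 1 ≤ m) : detBound q m ≤ 2 * q ^ (m - 1) := by
  rcases Nat.lt_or_ge m 5 with h | h
  · interval_cases m
    · rw [detBound_one]; simp
    · rw [detBound_two]; simp; omega
    · rw [detBound_three]; simp; nlinarith [Nat.sub_le q 1]
    · rw [detBound_four]; obtain ⟨p, rfl⟩ : ∃ p, q = p + 1 := ⟨q - 1, by omega⟩
      simp; nlinarith [mul_self_nonneg p, Nat.zero_le (p ^ 3)]
  · refine (detBound_le hq h).trans ?_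
    obtain ⟨j, rfl⟩ : ∃ j, m = j + 2 := ⟨m - 2, by omega⟩
    simp [pow_succ]
    nlinarith [Nat.mul_le_mul_left (q ^ j) hq]

end CfsgLib.ClassCount
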