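import Cfsg.Agent.ClassCount.Contract
import Cfsg.Agent.Linear.Basic

set_option autoImplicit false

/-!
Bounds for the class numbers of `SL(n,q)` and of `PSL(n,q)` (the centre acts on the classes of `SL(n,q)`).
-/

namespace CfsgLib.ClassCount

open Polynomial

variable {F : Type*} [Field F] [Fintype F] {n : ℕ}

/-- The bound for the data of weight `n`, exponents divisible by `t`, invariant of order `o`. -/
def T (q n o t : ℕ) : ℕ := if o * t ∣ n then t * detB q (n / (o * t)) else 0

/-- The bound for the classes of `SL(n,q)` fixed by a central element of order `o`. -/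
def fixBound (q n o : ℕ) : ℕ := ∑ t ∈ (Nat.gcd n (q - 1)).divisors, t.totient * T q n o t

/-- The bound for `gcd(n,q-1)` times the class number of `PSL(n,q)`. -/
def pslBound (q n : ℕ) : ℕ := ∑ o ∈ (Nat.gcd n (q - 1)).divisors, o.totient * fixBound q n o

theorem card_scale_inv_le (n : ℕ) (z : Fˣ) :
    Nat.card {c : ConjClasses (Matrix.SpecialLinearGroup (Fin n) F) // scaleData z (slData c) = slData c} ≤
      fixBound (Fintype.card F) n (orderOf z) := by
  classical
  set d := Nat.gcd n (Fintype.card F - 1) with hd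
  let I := {D : detSet F n (1 : F) // scaleData z D.1 = D.1}
  letI : Fintype I := Fintype.ofFinite I
  let π : {c : ConjClasses (Matrix.SpecialLinearGroup (Fin n) F) // scaleData z (slData c) = slData c} → I :=
    fun c => ⟨⟨slData c.1, slData_mem c.1⟩, c.2⟩
  have h1 : Nat.card {c : ConjClasses (Matrix.SpecialLinearGroup (Fin n) F) // scaleData z (slData c) = slData c}
      ≤ ∑ D : I, sOf D.1.1 := by
    rw [← Nat.card_congr (Equiv.sigmaFiberEquiv π), Nat.card_sigma]
    refine Finset.sum_le_sum fun D _ => le_trans ?_ (card_fibre_le (n := n) D.1.1)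
    refine Nat.card_le_card_of_injective
      (fun c => ⟨c.1.1, congrArg (fun x : I => (x.1.1 : Multiset (Item F))) c.2⟩) ?_
    intro c c' h
    exact Subtype.ext (Subtype.ext (congrArg
      (fun x : {c : ConjClasses (Matrix.SpecialLinearGroup (Fin n) F) // slData c = D.1.1} => x.1) h))
  refine h1.trans ?_
  have h2 : ∀ D : I, sOf D.1.1 = ∑ t ∈ d.divisors, if t ∣ sOf D.1.1 then t.totient else 0 := by
    intro D
    rw [← Finset.sum_filter, Nat.divisors_filter_dvd_of_dvd
      (Nat.gcd_pos_of_pos_right _ (Nat.sub_pos_of_lt Fintype.one_lt_card)).ne' (sOf_dvd D.1.2.1), Nat.sum_totient]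
  rw [Finset.sum_congr rfl fun D _ => h2 D, Finset.sum_comm, fixBound]
  refine Finset.sum_le_sum fun t htd => ?_
  have ht : 0 < t := Nat.pos_of_mem_divisors htd
  rw [← Finset.sum_filter, Finset.sum_const, smul_eq_mul, mul_comm]
  refine Nat.mul_le_mul_left _ (le_trans ?_ (card_invSet_le n ht z))
  rw [← Fintype.card_subtype, ← Nat.card_eq_fintype_card]
  haveI : Finite (invSet (F := F) n t z) :=
    Finite.of_injective (fun D : invSet (F := F) n t z => (⟨D.1, D.2.1⟩ : detSet F n (1 : F)))
      fun a b h => Subtype.ext (congrArg (fun x : detSet F n (1 : F) => (x : Multiset (Item F))) h)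
  refine Nat.card_le_card_of_injective
    (fun D => ⟨D.1.1.1, D.1.1.2, D.1.2, ((dvd_sOf _ t).1 D.2).2⟩) ?_
  intro D D' h
  exact Subtype.ext (Subtype.ext (Subtype.ext
    (congrArg (fun x : invSet (F := F) n t z => (x : Multiset (Item F))) h)))

theorem scaleData_one (D : Multiset (Item F)) : scaleData (1 : Fˣ) D = D := by
  simp [scaleData, scaleRoots_one]

theorem card_classes_SL_le (n : ℕ) :
    Nat.card (ConjClasses (Matrix.SpecialLinearGroup (Fin n) F)) ≤ fixBound (Fintype.card F) n 1 := by
  have h := card_scale_inv_le (F := F) n 1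
  rw [orderOf_one] at h
  refine le_trans (le_of_eq (Nat.card_congr (Equiv.subtypeUnivEquiv fun c => scaleData_one _).symm)) h

section Quotient

variable {G : Type*} [Group G]

/-- Multiplication of classes by central elements. -/
@[reducible]
def classAction (Z : Subgroup G) (hZ : Z ≤ Subgroup.center G) : MulAction Z (ConjClasses G) where
  smul z := Quotient.map (fun g => (z : G) * g) fun a b h => by
    obtain ⟨c, hc⟩ := isConj_iff.1 h
    refine isConj_iff.2 ⟨c, ?_⟩
    rw [← mul_assoc c, Subgroup.mem_center_iff.1 (hZ z.2) c, mul_assoc, mul_assoc, ← mul_assoc c, hc]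
  mul_smul z w := by
    rintro ⟨g⟩
    exact congrArg (Quotient.mk _) (mul_assoc (z : G) w g)
  one_smul := by
    rintro ⟨g⟩
    exact congrArg (Quotient.mk _) (one_mul g)

theorem card_classes_quotient [Finite G] (Z : Subgroup G) [Z.Normal] (hZ : Z ≤ Subgroup.center G) :
    letI := classAction Z hZ
    Nat.card (MulAction.orbitRel.Quotient Z (ConjClasses G)) = Nat.card (ConjClasses (G ⧸ Z)) := by
  letI := classAction Z hZ
  refine Nat.card_congr (Equiv.ofBijective
    (Quotient.lift (ConjClasses.map (QuotientGroup.mk' Z)) ?_) ⟨?_, ?_⟩)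
  · intro a b h
    obtain ⟨z, rfl⟩ := MulAction.orbitRel_apply.1 h
    induction b using Quotient.inductionOn with
    | _ g =>
      show ConjClasses.mk (QuotientGroup.mk' Z ((z : G) * g)) = ConjClasses.mk (QuotientGroup.mk' Z g)
      rw [map_mul, show QuotientGroup.mk' Z (z : G) = 1 from (QuotientGroup.eq_one_iff _).2 z.2, one_mul]
  · rintro ⟨⟨a⟩⟩ ⟨⟨b⟩⟩ h
    obtain ⟨c, hc⟩ := isConj_iff.1 (ConjClasses.mk_eq_mk_iff_isConj.1 h)
    obtain ⟨c, rfl⟩ := QuotientGroup.mk'_surjective Z c
    rw [← map_mul, ← map_inv, ← map_mul, QuotientGroup.mk'_eq_mk'] at hc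
    obtain ⟨z, hz, hzb⟩ := hc
    refine Quotient.sound (MulAction.orbitRel_apply.2 ⟨⟨z, hz⟩⁻¹, ?_⟩)
    show ConjClasses.mk (z⁻¹ * b) = ConjClasses.mk a
    rw [ConjClasses.mk_eq_mk_iff_isConj, ← hzb]
    refine isConj_iff.2 ⟨c⁻¹, ?_⟩
    rw [Subgroup.mem_center_iff.1 (hZ hz) (c * a * c⁻¹)]
    group
  · rintro ⟨g⟩
    obtain ⟨g, rfl⟩ := QuotientGroup.mk'_surjective Z g
    exact ⟨Quotient.mk _ (ConjClasses.mk g), rfl⟩

end Quotient

theorem dataOf_conj (c x : GL (Fin n) F) : dataOf (c * x * c⁻¹) = dataOf x := by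
  obtain ⟨d⟩ := exists_decomp (x : Matrix (Fin n) (Fin n) F) (Matrix.GeneralLinearGroup.det_ne_zero x)
  rw [dataOf_eq d]
  exact dataOf_eq (g := c * x * c⁻¹) (d.conj c)

theorem dataOf_eq_scale {x y : GL (Fin n) F} (z : Fˣ)
    (h : (y : Matrix (Fin n) (Fin n) F) = (z : F) • (x : Matrix (Fin n) (Fin n) F)) :
    dataOf y = scaleData z (dataOf x) := by
  obtain ⟨d⟩ := exists_decomp (x : Matrix (Fin n) (Fin n) F) (Matrix.GeneralLinearGroup.det_ne_zero x)
  have key : ∀ (M : Matrix (Fin n) (Fin n) F) (e : Decomp M), (y : Matrix (Fin n) (Fin n) F) = M →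
      dataOf y = e.data := by
    rintro M e rfl
    exact dataOf_eq e
  rw [key _ (d.scale z) h, dataOf_eq d]
  exact d.scale_data z

theorem card_classes_PSL [NeZero n] :
    Nat.card (ConjClasses (Matrix.SpecialLinearGroup (Fin n) F)) ≤
        Nat.gcd n (Fintype.card F - 1) * Nat.card (ConjClasses (Matrix.ProjectiveSpecialLinearGroup (Fin n) F)) ∧
      Nat.gcd n (Fintype.card F - 1) * Nat.card (ConjClasses (Matrix.ProjectiveSpecialLinearGroup (Fin n) F)) ≤
        pslBound (Fintype.card F) n := by
  classical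
  let G := Matrix.SpecialLinearGroup (Fin n) F
  let Z : Subgroup G := Subgroup.center G
  letI := classAction Z le_rfl
  have hq : Nat.card (MulAction.orbitRel.Quotient Z (ConjClasses G)) = Nat.card (ConjClasses (G ⧸ Z)) :=
    card_classes_quotient Z le_rfl
  have hcard : Nat.card Z = Nat.gcd n (Fintype.card F - 1) := by
    have := Linear.card_center_SL (n := Fin n) (F := F)
    simpa [Fintype.card_fin, Nat.gcd_comm] using this
  constructor
  · rw [← hcard, show Nat.card (ConjClasses (Matrix.ProjectiveSpecialLinearGroup (Fin n) F)) =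
      Nat.card (MulAction.orbitRel.Quotient Z (ConjClasses G)) from hq.symm, ← Nat.card_prod]
    refine Nat.card_le_card_of_surjective (fun p => p.1 • Quotient.out p.2) fun c => ?_
    obtain ⟨z, hz⟩ := MulAction.orbitRel_apply.1 (Quotient.mk_out (s := MulAction.orbitRel Z (ConjClasses G)) c)
    exact ⟨(z⁻¹, Quotient.mk _ c), by simp only; rw [← hz, inv_smul_smul]⟩
  letI : Fintype Z := Fintype.ofFinite Z
  letI : Fintype (MulAction.orbitRel.Quotient Z (ConjClasses G)) := Fintype.ofFinite _
  have hb := MulAction.sum_card_fixedBy_eq_card_orbits_mul_card_group Z (ConjClasses G)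
  rw [mul_comm, show Nat.card (ConjClasses (Matrix.ProjectiveSpecialLinearGroup (Fin n) F)) =
      Nat.card (MulAction.orbitRel.Quotient Z (ConjClasses G)) from hq.symm, ← hcard, Nat.card_eq_fintype_card,
    Nat.card_eq_fintype_card, ← hb]
  let e := Matrix.SpecialLinearGroup.center_equiv_rootsOfUnity' (R := F) (0 : Fin n)
  let ρ : Z →* Fˣ := (rootsOfUnity (Fintype.card (Fin n)) F).subtype.comp e.toMonoidHom
  have hρ : Function.Injective ρ := Subtype.val_injective.comp e.injective
  have hfix : ∀ z : Z, Fintype.card (MulAction.fixedBy (ConjClasses G) z) ≤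
      fixBound (Fintype.card F) n (orderOf z) := by
    intro z
    rw [← orderOf_injective ρ hρ z, ← Nat.card_eq_fintype_card]
    refine le_trans ?_ (card_scale_inv_le n (ρ z))
    refine Nat.card_le_card_of_injective (fun c => ⟨c.1, ?_⟩) fun c c' h => Subtype.ext
      (congrArg (fun x : {c : ConjClasses G // scaleData (ρ z) (slData c) = slData c} => x.1) h)
    have hc : ConjClasses.mk ((z : G) * Quotient.out c.1) = ConjClasses.mk (Quotient.out c.1) := by
      have h1 : z • c.1 = c.1 := c.2
      rw [show ConjClasses.mk (Quotient.out c.1) = c.1 from Quotient.out_eq c.1]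
      refine Eq.trans ?_ h1
      conv_rhs => rw [← Quotient.out_eq c.1]
      rfl
    obtain ⟨a, ha⟩ := isConj_iff.1 (ConjClasses.mk_eq_mk_iff_isConj.1 hc)
    have h2 := congrArg (fun g : G => dataOf (Matrix.SpecialLinearGroup.toGL g)) ha
    simp only [map_mul, map_inv, dataOf_conj] at h2
    show scaleData (ρ z) (slData c.1) = slData c.1
    unfold slData
    rw [← dataOf_eq_scale (ρ z) (y := Matrix.SpecialLinearGroup.toGL (z : G) *
      Matrix.SpecialLinearGroup.toGL (Quotient.out c.1))]
    · exact h2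
    · show ((z : G) : Matrix (Fin n) (Fin n) F) * _ = _
      rw [← Matrix.SpecialLinearGroup.scalar_eq_coe_self_center z (0 : Fin n), Matrix.scalar_apply,
        ← Matrix.smul_one_eq_diagonal, Matrix.smul_mul, one_mul]
      rfl
  refine (Finset.sum_le_sum fun z _ => hfix z).trans ?_
  haveI : IsCyclic Z := isCyclic_of_injective ρ hρ
  have hcard' : Fintype.card Z = Nat.gcd n (Fintype.card F - 1) := by rw [← Nat.card_eq_fintype_card, hcard]
  rw [← Finset.sum_fiberwise_of_maps_to (g := orderOf) (t := (Nat.gcd n (Fintype.card F - 1)).divisors)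
    (fun z _ => Nat.mem_divisors.2 ⟨hcard' ▸ orderOf_dvd_card,
      (Nat.gcd_pos_of_pos_left _ (NeZero.pos n)).ne'⟩), pslBound]
  refine Finset.sum_le_sum fun o ho => ?_
  rw [Finset.sum_congr rfl fun z hz => by rw [(Finset.mem_filter.1 hz).2], Finset.sum_const, smul_eq_mul,
    IsCyclic.card_orderOf_eq_totient (by rw [hcard']; exact Nat.dvd_of_mem_divisors ho)]

end CfsgLib.ClassCount
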