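import Cfsg.Agent.ClassCount.Count

set_option autoImplicit false

/-!
Data all of whose exponents are multiples of `t` and which are invariant under scaling the roots by an element
of order `o`: they correspond to data of weight `n / (o t)` with one of `t` determinants.
-/

namespace CfsgLib.ClassCount

open Polynomial

variable {F : Type*} [Field F] {n : ℕ}

/-- Scaling of data. -/
noncomputable def scaleData (z : Fˣ) (D : Multiset (Item F)) : Multiset (Item F) :=
  D.map fun it => (it.1.scaleRoots (z : F), it.2)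

theorem part_cons (a : Item F) (D : Multiset (Item F)) (e : ℕ) :
    part (a ::ₘ D) e = (if a.2 = e then a.1 else 1) * part D e := by
  unfold part
  by_cases h : a.2 = e
  · rw [Multiset.filter_cons_of_pos (p := fun it : Item F => it.2 = e) D h, Multiset.map_cons,
      Multiset.prod_cons, if_pos h]
  · rw [Multiset.filter_cons_of_neg (p := fun it : Item F => it.2 = e) D h, if_neg h, one_mul]

theorem part_scaleData (z : Fˣ) (D : Multiset (Item F)) (e : ℕ) :
    part (scaleData z D) e = (part D e).scaleRoots (z : F) := by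
  induction D using Multiset.induction with
  | empty => simp [scaleData, part, one_scaleRoots]
  | cons a D ih =>
    rw [scaleData, Multiset.map_cons, part_cons, part_cons, ← scaleData, ih, mul_scaleRoots_of_noZeroDivisors]
    by_cases h : a.2 = e
    · simp [h]
    · simp [h, one_scaleRoots]

theorem coeff_eq_zero_of_scale_eq {f : F[X]} (hf : f.Monic) (h0 : f.coeff 0 ≠ 0) {z : Fˣ}
    (h : f.scaleRoots (z : F) = f) :
    orderOf z ∣ f.natDegree ∧ ∀ k, ¬ orderOf z ∣ k → f.coeff k = 0 := by
  have key : ∀ k, f.coeff k ≠ 0 → orderOf z ∣ f.natDegree - k := by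
    intro k hk
    have h1 := congrArg (fun p : F[X] => p.coeff k) h
    simp only [coeff_scaleRoots] at h1
    apply orderOf_dvd_of_pow_eq_one
    apply Units.ext
    rw [Units.val_pow_eq_pow_val, Units.val_one]
    exact mul_left_cancel₀ hk (h1.trans (mul_one _).symm)
  have hd : orderOf z ∣ f.natDegree := by simpa using key 0 h0
  refine ⟨hd, fun k hk => ?_⟩
  by_contra hne
  apply hk
  have hle : k ≤ f.natDegree := le_natDegree_of_ne_zero hne
  have := Nat.dvd_sub hd (key k hne)
  rwa [Nat.sub_sub_self hle] at this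

theorem expand_contract_of_coeff {o : ℕ} (ho : 0 < o) {f : F[X]} (h : ∀ k, ¬ o ∣ k → f.coeff k = 0) :
    expand F o (contract o f) = f := by
  ext k
  rw [coeff_expand ho]
  split_ifs with hk
  · rw [coeff_contract ho.ne', Nat.div_mul_cancel hk]
  · exact (h k hk).symm

theorem δ_expand {o : ℕ} (ho : 0 < o) (G : F[X]) :
    δ (expand F o G) = (-1) ^ ((o + 1) * G.natDegree) * δ G := by
  rw [δ, δ, natDegree_expand, coeff_expand ho, if_pos (dvd_zero o), Nat.zero_div, ← mul_assoc, ← pow_add,
    show (o + 1) * G.natDegree + G.natDegree = G.natDegree * o + 2 * G.natDegree by ring, pow_add,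
    Even.neg_one_pow (n := 2 * G.natDegree) (even_two_mul _), mul_one]

theorem eq_sum_filter {D : Multiset (Item F)} {S : Finset ℕ} (hS : ∀ it ∈ D, it.2 ∈ S) :
    D = ∑ e ∈ S, D.filter fun it => it.2 = e := by
  classical
  refine Multiset.ext' fun it => ?_
  rw [Multiset.count_sum']
  simp only [Multiset.count_filter]
  rw [Finset.sum_ite_eq S it.2 fun _ => Multiset.count it D]
  split_ifs with h
  · rfl
  · exact Multiset.count_eq_zero.2 fun hit => h (hS it hit)

theorem size_sum {ι : Type*} (S : Finset ι) (f : ι → Multiset (Item F)) :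
    size (∑ i ∈ S, f i) = ∑ i ∈ S, size (f i) := by
  classical
  induction S using Finset.induction with
  | empty => simp [size]
  | insert a S ha ih => rw [Finset.sum_insert ha, Finset.sum_insert ha, size_add, ih]

theorem detD_sum {ι : Type*} (S : Finset ι) (f : ι → Multiset (Item F)) :
    detD (∑ i ∈ S, f i) = ∏ i ∈ S, detD (f i) := by
  classical
  induction S using Finset.induction with
  | empty => simp [detD]
  | insert a S ha ih => rw [Finset.sum_insert ha, Finset.prod_insert ha, detD_add, ih]

theorem size_eq_sum {D : Multiset (Item F)} (hD : ∀ it ∈ D, IsItem it) {S : Finset ℕ} (hS : ∀ it ∈ D, it.2 ∈ S) :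
    size D = ∑ e ∈ S, (part D e).natDegree * e := by
  conv_lhs => rw [eq_sum_filter hS, size_sum]
  exact Finset.sum_congr rfl fun e _ => size_filter_eq hD e

theorem detD_eq_prod {D : Multiset (Item F)} (hD : ∀ it ∈ D, IsItem it) {S : Finset ℕ} (hS : ∀ it ∈ D, it.2 ∈ S) :
    detD D = ∏ e ∈ S, δ (part D e) ^ e := by
  conv_lhs => rw [eq_sum_filter hS, detD_sum]
  exact Finset.prod_congr rfl fun e _ => detD_filter_eq hD e

theorem exp_le_size {D : Multiset (Item F)} (hD : ∀ it ∈ D, IsItem it) {it : Item F} (h : it ∈ D) :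
    it.2 ≤ size D := by
  obtain ⟨D', rfl⟩ := Multiset.exists_cons_of_mem h
  rw [size_cons]
  have := Nat.mul_le_mul (hD it h).deg_pos (le_refl it.2)
  omega

section Items

open Classical in
/-- The items `(P, e)` with `P` running over the monic irreducible factors of `G`. -/
noncomputable def itemsOf (G : F[X]) (e : ℕ) : Multiset (Item F) :=
  (UniqueFactorizationMonoid.normalizedFactors G).map fun P => (P, e)

theorem part_itemsOf {G : F[X]} (hG : G.Monic) (j e : ℕ) :
    part (itemsOf G j) e = if j = e then G else 1 := by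
  classical
  unfold part itemsOf
  split_ifs with h
  · rw [Multiset.filter_eq_self.2, Multiset.map_map]
    · simp only [Function.comp_def, Multiset.map_id']
      refine eq_of_monic_of_associated ?_ hG (UniqueFactorizationMonoid.prod_normalizedFactors hG.ne_zero)
      rw [← Multiset.map_id' (UniqueFactorizationMonoid.normalizedFactors G)]
      refine monic_multiset_prod_of_monic _ _ fun P hP => ?_
      rw [← UniqueFactorizationMonoid.normalize_normalized_factor P hP]
      exact monic_normalize (UniqueFactorizationMonoid.irreducible_of_normalized_factor P hP).ne_zero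
    · intro it hit
      obtain ⟨P, -, rfl⟩ := Multiset.mem_map.1 hit
      exact h
  · rw [Multiset.filter_eq_nil.2, Multiset.map_zero, Multiset.prod_zero]
    intro it hit
    obtain ⟨P, -, rfl⟩ := Multiset.mem_map.1 hit
    exact h

theorem isItem_itemsOf {G : F[X]} (h0 : G.coeff 0 ≠ 0) {e : ℕ} (he : 1 ≤ e) :
    ∀ it ∈ itemsOf G e, IsItem it ∧ it.2 = e := by
  classical
  intro it hit
  obtain ⟨P, hP, rfl⟩ := Multiset.mem_map.1 hit
  refine ⟨⟨?_, UniqueFactorizationMonoid.irreducible_of_normalized_factor P hP, ?_, he⟩, rfl⟩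
  · rw [← UniqueFactorizationMonoid.normalize_normalized_factor P hP]
    exact monic_normalize (UniqueFactorizationMonoid.irreducible_of_normalized_factor P hP).ne_zero
  · intro hc
    obtain ⟨R, hR⟩ := UniqueFactorizationMonoid.dvd_of_mem_normalizedFactors hP
    apply h0
    rw [hR, mul_coeff_zero]
    simp [show P.coeff 0 = 0 from hc]

theorem part_sum {ι : Type*} (S : Finset ι) (f : ι → Multiset (Item F)) (e : ℕ) :
    part (∑ i ∈ S, f i) e = ∏ i ∈ S, part (f i) e := by
  classical
  induction S using Finset.induction with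
  | empty => simp [part]
  | insert a S ha ih =>
    rw [Finset.sum_insert ha, Finset.prod_insert ha, ← ih]
    simp [part, Multiset.filter_add]

end Items

/-- The data invariant under scaling by `z` with all exponents divisible by `t`, of determinant one. -/
def invSet (n t : ℕ) (z : Fˣ) : Set (Multiset (Item F)) :=
  {D | D ∈ detSet F n 1 ∧ scaleData z D = D ∧ ∀ it ∈ D, t ∣ it.2}

variable [Fintype F]

theorem card_invSet_le (n : ℕ) {t : ℕ} (ht : 0 < t) (z : Fˣ) :
    Nat.card (invSet (F := F) n t z) ≤
      if orderOf z * t ∣ n then t * detB (Fintype.card F) (n / (orderOf z * t)) else 0 := by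
  classical
  set o := orderOf z with ho'
  have ho : 0 < o := orderOf_pos z
  let G : Multiset (Item F) → ℕ → F[X] := fun D e => contract o (part D (t * e))
  let Dc : Multiset (Item F) → Multiset (Item F) := fun D => ∑ e ∈ Finset.Icc 1 n, itemsOf (G D e) e
  have hexp : ∀ D ∈ invSet (F := F) n t z, ∀ e, expand F o (G D e) = part D (t * e) := by
    intro D hD e
    have hval : ∀ it ∈ D, IsItem it := fun it hit => (hD.1.1.1 it hit).1
    exact expand_contract_of_coeff ho (coeff_eq_zero_of_scale_eq (part_monic hval _) (part_coeff_ne hval _)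
      ((part_scaleData z D _).symm.trans (by rw [hD.2.1]))).2
  have hG : ∀ D ∈ invSet (F := F) n t z, ∀ e, (G D e).Monic ∧ (G D e).coeff 0 ≠ 0 := by
    intro D hD e
    have hval : ∀ it ∈ D, IsItem it := fun it hit => (hD.1.1.1 it hit).1
    refine ⟨(monic_expand_iff ho).1 (by rw [hexp D hD e]; exact part_monic hval _), ?_⟩
    rw [coeff_contract ho.ne', zero_mul]
    exact part_coeff_ne hval _
  have hS : ∀ D ∈ invSet (F := F) n t z, ∀ it ∈ D, it.2 ∈ (Finset.Icc 1 n).image (t * ·) := by
    intro D hD it hit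
    have hval : ∀ it ∈ D, IsItem it := fun it hit => (hD.1.1.1 it hit).1
    obtain ⟨k, hk⟩ := hD.2.2 it hit
    have h1 := exp_le_size hval hit
    have h2 := (hval it hit).pos
    rw [hD.1.1.2, hk] at h1
    rw [hk] at h2
    refine Finset.mem_image.2 ⟨k, Finset.mem_Icc.2 ⟨?_, le_trans (Nat.le_mul_of_pos_left k ht) h1⟩, hk.symm⟩
    exact Nat.pos_of_ne_zero fun h => by simp [h] at h2
  have hDcval : ∀ D ∈ invSet (F := F) n t z, ∀ it ∈ Dc D, IsItem it ∧ it.2 ∈ Finset.Icc 1 n := by
    intro D hD it hit
    obtain ⟨e, he, hit⟩ := Multiset.mem_sum.1 hit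
    obtain ⟨h1, h2⟩ := isItem_itemsOf (hG D hD e).2 (Finset.mem_Icc.1 he).1 it hit
    exact ⟨h1, h2 ▸ he⟩
  have hpart : ∀ D ∈ invSet (F := F) n t z, ∀ e ∈ Finset.Icc 1 n, part (Dc D) e = G D e := by
    intro D hD e he
    rw [part_sum, Finset.prod_congr rfl fun j _ => part_itemsOf (hG D hD j).1 j e, Finset.prod_ite_eq', if_pos he]
  have hsize : ∀ D ∈ invSet (F := F) n t z, o * t * size (Dc D) = n := by
    intro D hD
    conv_rhs => rw [← hD.1.1.2, size_eq_sum (fun it hit => (hD.1.1.1 it hit).1) (hS D hD)]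
    rw [size_eq_sum (fun it hit => (hDcval D hD it hit).1) (fun it hit => (hDcval D hD it hit).2),
      Finset.sum_image (fun a _ b _ h => Nat.eq_of_mul_eq_mul_left ht h), Finset.mul_sum]
    refine Finset.sum_congr rfl fun e he => ?_
    rw [hpart D hD e he, ← hexp D hD e, natDegree_expand]
    ring
  by_cases hdvd : o * t ∣ n
  swap
  · rw [if_neg hdvd]
    haveI : IsEmpty (invSet (F := F) n t z) := ⟨fun D => hdvd ⟨_, (hsize D.1 D.2).symm⟩⟩
    simp
  rw [if_pos hdvd]
  obtain ⟨m, hm⟩ := hdvd
  rw [show n / (o * t) = m by rw [hm, Nat.mul_div_cancel_left _ (Nat.mul_pos ho ht)]]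
  set ε : F := (((-1) ^ ((o + 1) * m)) ^ t)⁻¹ with hε
  have hdet : ∀ D ∈ invSet (F := F) n t z, detD (Dc D) ^ t = ε := by
    intro D hD
    have hval : ∀ it ∈ D, IsItem it := fun it hit => (hD.1.1.1 it hit).1
    have h1 := hD.1.2
    rw [detD_eq_prod hval (hS D hD), Finset.prod_image (fun a _ b _ h => Nat.eq_of_mul_eq_mul_left ht h)] at h1
    have hsz : size (Dc D) = m := Nat.eq_of_mul_eq_mul_left (Nat.mul_pos ho ht) ((hsize D hD).trans hm)
    rw [hε]
    apply eq_inv_of_mul_eq_one_left
    rw [detD_eq_prod (fun it hit => (hDcval D hD it hit).1) (fun it hit => (hDcval D hD it hit).2), ← mul_pow]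
    refine Eq.trans ?_ h1
    rw [← hsz, size_eq_sum (fun it hit => (hDcval D hD it hit).1) (fun it hit => (hDcval D hD it hit).2),
      Finset.mul_sum, ← Finset.prod_pow_eq_pow_sum, ← Finset.prod_mul_distrib, ← Finset.prod_pow]
    refine Finset.prod_congr rfl fun e he => ?_
    rw [hpart D hD e he, ← hexp D hD e, δ_expand ho]
    simp only [mul_pow, ← pow_mul]
    ring
  let R : Finset F := (nthRoots t ε).toFinset
  have hR : R.card ≤ t := (Multiset.toFinset_card_le _).trans (card_nthRoots t ε)
  let f : invSet (F := F) n t z → Σ u : R, detSet F m (u : F) := fun D =>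
    ⟨⟨detD (Dc D.1), Multiset.mem_toFinset.2 ((mem_nthRoots ht).2 (hdet D.1 D.2))⟩,
      ⟨Dc D.1, ⟨fun it hit => ⟨(hDcval D.1 D.2 it hit).1, (hDcval D.1 D.2 it hit).1.pos⟩,
        Nat.eq_of_mul_eq_mul_left (Nat.mul_pos ho ht) ((hsize D.1 D.2).trans hm)⟩, rfl⟩⟩
  have hf : Function.Injective f := by
    intro D D' h
    have hc : Dc D.1 = Dc D'.1 :=
      congrArg (fun s : Σ u : R, detSet F m (u : F) => (s.2 : Multiset (Item F))) h
    apply Subtype.ext
    rw [eq_sum_filter (hS D.1 D.2), eq_sum_filter (hS D'.1 D'.2)]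
    refine Finset.sum_congr rfl fun e he => ?_
    obtain ⟨k, hk, rfl⟩ := Finset.mem_image.1 he
    apply filter_eq_of_part_eq (fun it hit => (D.2.1.1.1 it hit).1) (fun it hit => (D'.2.1.1.1 it hit).1)
    rw [← hexp D.1 D.2 k, ← hexp D'.1 D'.2 k, ← hpart D.1 D.2 k hk, ← hpart D'.1 D'.2 k hk, hc]
  refine (Nat.card_le_card_of_injective f hf).trans ?_
  rw [Nat.card_sigma]
  refine (Finset.sum_le_card_nsmul _ _ (detB (Fintype.card F) m) fun u _ => card_detSet_le_detB m _).trans ?_
  rw [Finset.card_univ, Fintype.card_coe, smul_eq_mul]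
  exact Nat.mul_le_mul hR le_rfl

end CfsgLib.ClassCount
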