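import Cfsg.Agent.ClassCount.Decomp

set_option autoImplicit false

/-!
Class numbers of `GL(n,q)` and `SL(n,q)` in terms of elementary-divisor data, and companion matrices for the
lower bounds.
-/

namespace CfsgLib.ClassCount

open Polynomial

variable {F : Type*} [Field F] {n : ℕ}

local notation "Mn" => Matrix (Fin n) (Fin n) F

theorem exists_companion {f : F[X]} (hf : f.Monic) (hn : f.natDegree = n) :
    ∃ M : Mn, M.charpoly = f ∧ (2 ≤ n → M ≠ 1) := by
  classical
  let pb := AdjoinRoot.powerBasis hf.ne_zero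
  have hdim : pb.dim = n := by rw [AdjoinRoot.powerBasis_dim, hn]
  refine ⟨Matrix.reindex (finCongr hdim) (finCongr hdim) (Algebra.leftMulMatrix pb.basis pb.gen), ?_, ?_⟩
  · rw [Matrix.charpoly_reindex, charpoly_leftMulMatrix, AdjoinRoot.powerBasis_gen,
      AdjoinRoot.minpoly_root hf.ne_zero, hf.leadingCoeff, inv_one, map_one, mul_one]
  · intro h2 h1
    have h3 : Algebra.leftMulMatrix pb.basis pb.gen = Algebra.leftMulMatrix pb.basis 1 := by
      rw [map_one]
      apply (Matrix.reindex (finCongr hdim) (finCongr hdim)).injective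
      rw [h1]
      simp [Matrix.reindex_apply]
    have h4 := Algebra.leftMulMatrix_injective pb.basis h3
    rw [AdjoinRoot.powerBasis_gen, ← AdjoinRoot.mk_X, ← map_one (AdjoinRoot.mk f), AdjoinRoot.mk_eq_mk] at h4
    have := natDegree_le_of_dvd h4 (X_sub_C_ne_zero (1 : F))
    rw [← C_1, natDegree_X_sub_C] at this
    omega

/-- `X^n + ∑ a i X^i`. -/
noncomputable def monicOf (a : Fin n → F) : F[X] := X ^ n + ∑ i : Fin n, C (a i) * X ^ (i : ℕ)

theorem monicOf_monic (a : Fin n → F) : (monicOf a).Monic :=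
  monic_X_pow_add (degree_sum_fin_lt a)

theorem monicOf_natDegree (a : Fin n → F) : (monicOf a).natDegree = n := by
  apply natDegree_eq_of_degree_eq_some
  rw [monicOf, degree_add_eq_left_of_degree_lt, degree_X_pow]
  rw [degree_X_pow]
  exact degree_sum_fin_lt a

theorem monicOf_coeff (a : Fin n → F) (i : Fin n) : (monicOf a).coeff i = a i := by
  rw [monicOf, coeff_add, coeff_X_pow, if_neg (Nat.ne_of_lt i.2), zero_add, finset_sum_coeff,
    Finset.sum_eq_single i]
  · simp
  · intro j _ hj
    rw [coeff_C_mul, coeff_X_pow, if_neg (fun h => hj (Fin.ext h.symm)), mul_zero]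
  · simp

theorem monicOf_injective : Function.Injective (monicOf (F := F) (n := n)) := fun a b h =>
  funext fun i => by rw [← monicOf_coeff a i, h, monicOf_coeff]

theorem charpoly_eq_of_isConj {g h : GL (Fin n) F} (hc : IsConj g h) :
    (g : Mn).charpoly = (h : Mn).charpoly := by
  obtain ⟨c, rfl⟩ := isConj_iff.1 hc
  rw [Units.val_mul, Units.val_mul]
  rw [Matrix.coe_units_inv]
  exact (Matrix.charpoly_units_conj c (g : Mn)).symm

theorem det_eq_of_charpoly (M : Mn) {a : Fin n → F} (h : M.charpoly = monicOf a) :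
    M.det = (-1) ^ n * (monicOf a).coeff 0 := by
  rw [Matrix.det_eq_sign_charpoly_coeff, h, Fintype.card_fin]

variable [Fintype F]

theorem card_classes_GL_le (n : ℕ) :
    Nat.card (ConjClasses (GL (Fin n) F)) ≤ totalBound (Fintype.card F) n := by
  refine le_trans ?_ (card_dataSet_one_le n)
  let f : ConjClasses (GL (Fin n) F) → dataSet F 1 n := fun c =>
    ⟨dataOf (Quotient.out c), Decomp.mem_data _⟩
  haveI : Finite (dataSet F 1 n) := finite_dataSet_instance 0 n
  refine Nat.card_le_card_of_injective f fun c c' h => ?_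
  have hd : dataOf (Quotient.out c) = dataOf (Quotient.out c') :=
    congrArg (fun z : dataSet F 1 n => (z : Multiset (Item F))) h
  have hc := ConjClasses.mk_eq_mk_iff_isConj.2 (isConj_of_data_eq _ _ hd)
  rwa [show ConjClasses.mk (Quotient.out c) = c from Quotient.out_eq c,
    show ConjClasses.mk (Quotient.out c') = c' from Quotient.out_eq c'] at hc

theorem le_card_classes_GL {n : ℕ} (hn : 1 ≤ n) :
    Fintype.card F ^ n - Fintype.card F ^ (n - 1) ≤ Nat.card (ConjClasses (GL (Fin n) F)) := by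
  classical
  obtain ⟨m, rfl⟩ := Nat.exists_eq_add_of_le' hn
  have hex : ∀ p : Fˣ × (Fin m → F), ∃ g : GL (Fin (m + 1)) F,
      (g : Matrix (Fin (m + 1)) (Fin (m + 1)) F).charpoly = monicOf (Fin.cons (p.1 : F) p.2) := by
    intro p
    obtain ⟨M, hM, -⟩ := exists_companion (monicOf_monic (Fin.cons (p.1 : F) p.2)) (monicOf_natDegree _)
    refine ⟨Matrix.GeneralLinearGroup.mkOfDetNeZero M ?_, hM⟩
    rw [det_eq_of_charpoly M hM]
    have h0 := monicOf_coeff (Fin.cons (p.1 : F) p.2) (0 : Fin (m + 1))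
    simp only [Fin.val_zero, Fin.cons_zero] at h0
    rw [h0]
    exact mul_ne_zero (pow_ne_zero _ (neg_ne_zero.2 one_ne_zero)) p.1.ne_zero
  choose g hg using hex
  have hinj : Function.Injective fun p => ConjClasses.mk (g p) := by
    intro p p' h
    have h1 := charpoly_eq_of_isConj (ConjClasses.mk_eq_mk_iff_isConj.1 h)
    rw [hg, hg] at h1
    have h2 := monicOf_injective h1
    rw [Fin.cons_inj] at h2
    exact Prod.ext (Units.ext h2.1) h2.2
  have := Nat.card_le_card_of_injective _ hinj
  rw [Nat.card_prod, Nat.card_units, Nat.card_eq_fintype_card, Nat.card_fun, Nat.card_fin,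
    Nat.card_eq_fintype_card] at this
  rw [Nat.add_sub_cancel, pow_succ, ← Nat.mul_sub_one, mul_comm]
  exact this

/-- The gcd of `q - 1` and all exponents. -/
noncomputable def sOf (D : Multiset (Item F)) : ℕ :=
  Nat.gcd (Fintype.card F - 1) (D.map Prod.snd).gcd

omit [Fintype F] in
theorem dvd_gcd_exps (D : Multiset (Item F)) (t : ℕ) :
    t ∣ (D.map Prod.snd).gcd ↔ ∀ it ∈ D, t ∣ it.2 := by
  rw [Multiset.dvd_gcd]
  exact ⟨fun h it hit => h _ (Multiset.mem_map_of_mem _ hit), fun h b hb => by
    obtain ⟨it, hit, rfl⟩ := Multiset.mem_map.1 hb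
    exact h it hit⟩

theorem dvd_sOf (D : Multiset (Item F)) (t : ℕ) :
    t ∣ sOf D ↔ t ∣ Fintype.card F - 1 ∧ ∀ it ∈ D, t ∣ it.2 := by
  rw [sOf, Nat.dvd_gcd_iff, dvd_gcd_exps]

theorem sOf_pos (D : Multiset (Item F)) : 0 < sOf D :=
  Nat.gcd_pos_of_pos_left _ (Nat.sub_pos_of_lt Fintype.one_lt_card)

theorem sOf_dvd {D : Multiset (Item F)} (hD : D ∈ dataSet F 1 n) : sOf D ∣ Nat.gcd n (Fintype.card F - 1) := by
  refine Nat.dvd_gcd ?_ (Nat.gcd_dvd_left _ _)
  rw [← hD.2]
  exact dvd_size_of_dvd ((dvd_sOf D _).1 dvd_rfl).2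

/-- Determinants in the centraliser of `x`. -/
noncomputable def detCentralizer (x : GL (Fin n) F) : Subgroup Fˣ :=
  (Subgroup.centralizer {x}).map Matrix.GeneralLinearGroup.det

theorem index_detCentralizer_le (x : GL (Fin n) F) : (detCentralizer x).index ≤ sOf (dataOf x) := by
  classical
  obtain ⟨d⟩ := exists_decomp (x : Mn) (Matrix.GeneralLinearGroup.det_ne_zero x)
  rw [dataOf_eq d]
  obtain ⟨γ, hγ⟩ := IsCyclic.exists_generator (α := Fˣ)
  have hord : orderOf (QuotientGroup.mk γ : Fˣ ⧸ detCentralizer x) ∣ sOf d.data := by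
    rw [dvd_sOf]
    constructor
    · apply orderOf_dvd_of_pow_eq_one
      rw [← QuotientGroup.mk_pow, ← Fintype.card_units, pow_card_eq_one, QuotientGroup.mk_one]
    · intro it hit
      obtain ⟨i, -, rfl⟩ := Multiset.mem_map.1 hit
      apply orderOf_dvd_of_pow_eq_one
      rw [← QuotientGroup.mk_pow, QuotientGroup.eq_one_iff]
      obtain ⟨h, hc, hdet⟩ := exists_centralizer_det d i γ
      refine Subgroup.mem_map.2 ⟨h, ?_, hdet⟩
      rw [Subgroup.mem_centralizer_iff]
      intro y hy
      rw [Set.mem_singleton_iff] at hy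
      rw [hy]
      exact hc.symm
  have htop : ∀ z : Fˣ ⧸ detCentralizer x, z ∈ Subgroup.zpowers (QuotientGroup.mk γ : Fˣ ⧸ detCentralizer x) := by
    intro z
    induction z using QuotientGroup.induction_on with
    | H u =>
      obtain ⟨k, rfl⟩ := Subgroup.mem_zpowers_iff.1 (hγ u)
      exact ⟨k, rfl⟩
  rw [Subgroup.index_eq_card, ← orderOf_eq_card_of_forall_mem_zpowers htop]
  exact Nat.le_of_dvd (sOf_pos _) hord

/-- The data of a class of `SL(n,q)`. -/
noncomputable def slData (c : ConjClasses (Matrix.SpecialLinearGroup (Fin n) F)) : Multiset (Item F) :=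
  dataOf (Matrix.SpecialLinearGroup.toGL (Quotient.out c))

theorem slData_mem (c : ConjClasses (Matrix.SpecialLinearGroup (Fin n) F)) : slData c ∈ detSet F n 1 := by
  refine ⟨Decomp.mem_data _, ?_⟩
  rw [slData, dataOf, ← Decomp.det_eq]
  exact (Quotient.out c).prop

theorem card_fibre_le (D : Multiset (Item F)) :
    Nat.card {c : ConjClasses (Matrix.SpecialLinearGroup (Fin n) F) // slData c = D} ≤ sOf D := by
  classical
  by_cases hne : Nonempty {c : ConjClasses (Matrix.SpecialLinearGroup (Fin n) F) // slData c = D}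
  swap
  · haveI := not_nonempty_iff.1 hne
    simp
  obtain ⟨c0, hc0⟩ := hne
  set x : GL (Fin n) F := Matrix.SpecialLinearGroup.toGL (Quotient.out c0) with hx
  have hex : ∀ c : {c : ConjClasses (Matrix.SpecialLinearGroup (Fin n) F) // slData c = D},
      ∃ h : GL (Fin n) F, h * x * h⁻¹ = Matrix.SpecialLinearGroup.toGL (Quotient.out c.1) := fun c =>
    isConj_iff.1 (isConj_of_data_eq _ _ (show dataOf x = dataOf (Matrix.SpecialLinearGroup.toGL (Quotient.out c.1))
      from hc0.trans c.2.symm))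
  choose h hh using hex
  have hle := index_detCentralizer_le x
  rw [show dataOf x = D from hc0, Subgroup.index_eq_card] at hle
  refine le_trans (Nat.card_le_card_of_injective
    (fun c => (QuotientGroup.mk (Matrix.GeneralLinearGroup.det (h c)) : Fˣ ⧸ detCentralizer x)) ?_) hle
  intro c c' e
  obtain ⟨k, hk, hkd⟩ := Subgroup.mem_map.1 (QuotientGroup.eq.1 e)
  have hkx : k * x = x * k := (Subgroup.mem_centralizer_iff.1 hk x rfl).symm
  set K := h c' * (h c * k)⁻¹ with hK
  have hdet : Matrix.GeneralLinearGroup.det K = 1 := by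
    rw [hK, map_mul, map_inv, map_mul, hkd]
    group
  have hconj : K * Matrix.SpecialLinearGroup.toGL (Quotient.out c.1) * K⁻¹ =
      Matrix.SpecialLinearGroup.toGL (Quotient.out c'.1) := by
    have e2 : h c * k * x * (h c * k)⁻¹ = Matrix.SpecialLinearGroup.toGL (Quotient.out c.1) := by
      rw [mul_assoc (h c) k x, hkx, ← hh c]
      group
    rw [← e2, ← hh c', hK]
    group
  apply Subtype.ext
  rw [← show ConjClasses.mk (Quotient.out c.1) = c.1 from Quotient.out_eq c.1,
    ← show ConjClasses.mk (Quotient.out c'.1) = c'.1 from Quotient.out_eq c'.1, ConjClasses.mk_eq_mk_iff_isConj]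
  let K' : Matrix.SpecialLinearGroup (Fin n) F := ⟨(K : Mn), congrArg Units.val hdet⟩
  have hK' : Matrix.SpecialLinearGroup.toGL K' = K := Units.ext rfl
  refine isConj_iff.2 ⟨K', Matrix.SpecialLinearGroup.toGL_injective ?_⟩
  rw [map_mul, map_mul, map_inv, hK', hconj]

omit [Fintype F] in
theorem card_SL_classes_lower {n : ℕ} (hn : 2 ≤ n) [Finite F] :
    Nat.card F ^ (n - 1) < Nat.card (ConjClasses (Matrix.SpecialLinearGroup (Fin n) F)) := by
  classical
  obtain ⟨m, rfl⟩ := Nat.exists_eq_add_of_le' (show 1 ≤ n by omega)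
  have hex : ∀ b : Fin m → F, ∃ g : Matrix.SpecialLinearGroup (Fin (m + 1)) F,
      (g : Matrix (Fin (m + 1)) (Fin (m + 1)) F).charpoly = monicOf (Fin.cons ((-1 : F) ^ (m + 1)) b) ∧ g ≠ 1 := by
    intro b
    obtain ⟨M, hM, hM1⟩ := exists_companion (monicOf_monic (Fin.cons ((-1 : F) ^ (m + 1)) b)) (monicOf_natDegree _)
    have hdet : M.det = 1 := by
      rw [det_eq_of_charpoly M hM]
      have h0 := monicOf_coeff (Fin.cons ((-1 : F) ^ (m + 1)) b) (0 : Fin (m + 1))
      simp only [Fin.val_zero, Fin.cons_zero] at h0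
      rw [h0, ← mul_pow, neg_mul_neg, one_mul, one_pow]
    exact ⟨⟨M, hdet⟩, hM, fun h => hM1 hn (congrArg Subtype.val h)⟩
  choose g hg hg1 using hex
  let f : Option (Fin m → F) → ConjClasses (Matrix.SpecialLinearGroup (Fin (m + 1)) F) := fun o =>
    o.elim (ConjClasses.mk 1) fun b => ConjClasses.mk (g b)
  have hinj : Function.Injective f := by
    rintro (_ | b) (_ | b') h
    · rfl
    · exact absurd (isConj_one_right.1 (ConjClasses.mk_eq_mk_iff_isConj.1 h)) (hg1 b')
    · exact absurd (isConj_one_left.1 (ConjClasses.mk_eq_mk_iff_isConj.1 h)) (hg1 b)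
    · have h1 := charpoly_eq_of_isConj
        (Matrix.SpecialLinearGroup.toGL.map_isConj (ConjClasses.mk_eq_mk_iff_isConj.1 h))
      change (g b : Matrix (Fin (m + 1)) (Fin (m + 1)) F).charpoly =
        (g b' : Matrix (Fin (m + 1)) (Fin (m + 1)) F).charpoly at h1
      rw [hg, hg] at h1
      have h2 := monicOf_injective h1
      rw [Fin.cons_inj] at h2
      exact congrArg some h2.2
  have := Nat.card_le_card_of_injective f hinj
  rw [Finite.card_option, Nat.card_fun, Nat.card_fin] at this
  simpa using this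

end CfsgLib.ClassCount
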