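import Cfsg.Agent.ClassCount.Bounds

set_option autoImplicit false

/-!
Elementary-divisor data: multisets of pairs `(P, e)` with `P` monic irreducible, `P(0) ≠ 0`, `e ≥ 1`, and their number
by weight `∑ deg P · e` and by determinant.
-/

namespace CfsgLib.ClassCount

open Polynomial

variable {F : Type*} [Field F]

/-- A pair (polynomial, exponent). -/
abbrev Item (F : Type*) [Field F] : Type _ := F[X] × ℕ

/-- An admissible elementary divisor. -/
structure IsItem (it : Item F) : Prop where
  monic : it.1.Monic
  irr : Irreducible it.1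
  coeff_ne : it.1.coeff 0 ≠ 0
  pos : 1 ≤ it.2

theorem IsItem.deg_pos {it : Item F} (h : IsItem it) : 1 ≤ it.1.natDegree :=
  h.irr.natDegree_pos

/-- Total weight. -/
noncomputable def size (D : Multiset (Item F)) : ℕ := (D.map fun it => it.1.natDegree * it.2).sum

/-- `(-1)^deg P · P(0)`. -/
noncomputable def δ (P : F[X]) : F := (-1) ^ P.natDegree * P.coeff 0

/-- The determinant attached to data. -/
noncomputable def detD (D : Multiset (Item F)) : F := (D.map fun it => δ it.1 ^ it.2).prod

/-- Data of weight `m` with all exponents at least `i`. -/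
def dataSet (F : Type*) [Field F] (i m : ℕ) : Set (Multiset (Item F)) :=
  {D | (∀ it ∈ D, IsItem it ∧ i ≤ it.2) ∧ size D = m}

theorem δ_mul {A B : F[X]} (hA : A ≠ 0) (hB : B ≠ 0) : δ (A * B) = δ A * δ B := by
  rw [δ, δ, δ, natDegree_mul hA hB, mul_coeff_zero, pow_add]; ring

theorem δ_one : δ (1 : F[X]) = 1 := by simp [δ]

theorem δ_pow {A : F[X]} (hA : A ≠ 0) (k : ℕ) : δ (A ^ k) = δ A ^ k := by
  induction k with
  | zero => simp [δ_one]
  | succ k ih => rw [pow_succ, δ_mul (pow_ne_zero _ hA) hA, ih, pow_succ]

theorem size_add (D D' : Multiset (Item F)) : size (D + D') = size D + size D' := by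
  simp [size]

theorem detD_add (D D' : Multiset (Item F)) : detD (D + D') = detD D * detD D' := by
  simp [detD]

theorem size_cons (it : Item F) (D : Multiset (Item F)) : size (it ::ₘ D) = it.1.natDegree * it.2 + size D := by
  simp [size]

theorem eq_zero_of_size {D : Multiset (Item F)} (h : ∀ it ∈ D, IsItem it) (hs : size D = 0) : D = 0 := by
  refine Multiset.eq_zero_iff_forall_notMem.2 fun it hit => ?_
  obtain ⟨D', rfl⟩ := Multiset.exists_cons_of_mem hit
  rw [size_cons] at hs
  have h1 := Nat.mul_pos (h it hit).deg_pos (h it hit).pos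
  omega

theorem dvd_size_of_dvd {D : Multiset (Item F)} {t : ℕ} (h : ∀ it ∈ D, t ∣ it.2) : t ∣ size D := by
  refine Multiset.dvd_sum fun x hx => ?_
  obtain ⟨it, hit, rfl⟩ := Multiset.mem_map.1 hx
  exact Dvd.dvd.mul_left (h it hit) _

/-- The product of the polynomials of exponent `e`. -/
noncomputable def part (D : Multiset (Item F)) (e : ℕ) : F[X] :=
  ((D.filter fun it => it.2 = e).map Prod.fst).prod

theorem part_zero_list (e : ℕ) : part (0 : Multiset (Item F)) e = 1 := by simp [part]

theorem multiset_eq_of_prod_eq {A B : Multiset F[X]} (hA : ∀ P ∈ A, P.Monic ∧ Irreducible P)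
    (hB : ∀ P ∈ B, P.Monic ∧ Irreducible P) (h : A.prod = B.prod) : A = B := by
  have hr := UniqueFactorizationMonoid.factors_unique (fun P hP => (hA P hP).2) (fun P hP => (hB P hP).2)
    (Associated.of_eq h)
  exact Multiset.rel_eq.1 (hr.mono fun a ha b hb hab => eq_of_monic_of_associated (hA a ha).1 (hB b hb).1 hab)

theorem part_monic {D : Multiset (Item F)} (h : ∀ it ∈ D, IsItem it) (e : ℕ) : (part D e).Monic :=
  monic_multiset_prod_of_monic _ _ fun it hit => (h it (Multiset.mem_of_mem_filter hit)).monic

theorem part_coeff_ne {D : Multiset (Item F)} (h : ∀ it ∈ D, IsItem it) (e : ℕ) : (part D e).coeff 0 ≠ 0 := by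
  rw [part, coeff_zero_multiset_prod, Multiset.map_map]
  refine Multiset.prod_ne_zero ?_
  intro h0
  obtain ⟨it, hit, h0'⟩ := Multiset.mem_map.1 h0
  exact (h it (Multiset.mem_of_mem_filter hit)).coeff_ne h0'

theorem filter_snd_eq (D : Multiset (Item F)) (e : ℕ) :
    D.filter (fun it => it.2 = e) = ((D.filter fun it => it.2 = e).map Prod.fst).map fun P => (P, e) := by
  rw [Multiset.map_map]
  conv_lhs => rw [← Multiset.map_id (D.filter fun it => it.2 = e)]
  refine Multiset.map_congr rfl fun it hit => ?_
  obtain ⟨-, rfl⟩ := Multiset.mem_filter.1 hit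
  rfl

theorem filter_eq_of_part_eq {D D' : Multiset (Item F)} (h : ∀ it ∈ D, IsItem it) (h' : ∀ it ∈ D', IsItem it)
    {e : ℕ} (he : part D e = part D' e) :
    D.filter (fun it => it.2 = e) = D'.filter fun it => it.2 = e := by
  have hmem : ∀ (E : Multiset (Item F)), (∀ it ∈ E, IsItem it) →
      ∀ P ∈ (E.filter fun it => it.2 = e).map Prod.fst, P.Monic ∧ Irreducible P := by
    intro E hE P hP
    obtain ⟨it, hit, rfl⟩ := Multiset.mem_map.1 hP
    exact ⟨(hE it (Multiset.mem_of_mem_filter hit)).monic, (hE it (Multiset.mem_of_mem_filter hit)).irr⟩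
  rw [filter_snd_eq D e, filter_snd_eq D' e, multiset_eq_of_prod_eq (hmem D h) (hmem D' h') he]

theorem size_filter_eq {D : Multiset (Item F)} (h : ∀ it ∈ D, IsItem it) (e : ℕ) :
    size (D.filter fun it => it.2 = e) = (part D e).natDegree * e := by
  induction D using Multiset.induction with
  | empty => simp [size, part]
  | cons a D ih =>
    have ihh := ih fun it hit => h it (Multiset.mem_cons_of_mem hit)
    by_cases ha : a.2 = e
    · rw [part, Multiset.filter_cons_of_pos (p := fun it : Item F => it.2 = e) D ha, size_cons, ihh, Multiset.map_cons, Multiset.prod_cons, ← part,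
        (h a (Multiset.mem_cons_self _ _)).monic.natDegree_mul
          (part_monic (fun it hit => h it (Multiset.mem_cons_of_mem hit)) e), ha, add_mul]
    · rw [part, Multiset.filter_cons_of_neg (p := fun it : Item F => it.2 = e) D ha, ihh, part]

theorem detD_filter_eq {D : Multiset (Item F)} (h : ∀ it ∈ D, IsItem it) (e : ℕ) :
    detD (D.filter fun it => it.2 = e) = δ (part D e) ^ e := by
  induction D using Multiset.induction with
  | empty => simp [detD, part, δ_one]
  | cons a D ih =>
    have ihh := ih fun it hit => h it (Multiset.mem_cons_of_mem hit)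
    by_cases ha : a.2 = e
    · rw [part, Multiset.filter_cons_of_pos (p := fun it : Item F => it.2 = e) D ha, Multiset.map_cons, Multiset.prod_cons, ← part,
        δ_mul (h a (Multiset.mem_cons_self _ _)).monic.ne_zero
          (part_monic (fun it hit => h it (Multiset.mem_cons_of_mem hit)) e).ne_zero, mul_pow, ← ihh]
      simp [detD, ha]
    · rw [part, Multiset.filter_cons_of_neg (p := fun it : Item F => it.2 = e) D ha, ihh, part]

/-- Splitting off the parts of exponent `i`. -/
theorem mem_dataSet_split {i m : ℕ} {D : Multiset (Item F)} (hD : D ∈ dataSet F i m) :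
    (part D i).natDegree * i ≤ m ∧
      (D.filter fun it => ¬ it.2 = i) ∈ dataSet F (i + 1) (m - (part D i).natDegree * i) ∧
      detD D = δ (part D i) ^ i * detD (D.filter fun it => ¬ it.2 = i) := by
  have hval : ∀ it ∈ D, IsItem it := fun it hit => (hD.1 it hit).1
  have h1 := congrArg size (Multiset.filter_add_not (fun it => it.2 = i) D)
  rw [size_add, size_filter_eq hval, hD.2] at h1
  refine ⟨by omega, ⟨fun it hit => ?_, by omega⟩, ?_⟩
  · obtain ⟨hit, hne⟩ := Multiset.mem_filter.1 hit
    have := (hD.1 it hit).2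
    exact ⟨hval it hit, by omega⟩
  · conv_lhs => rw [← Multiset.filter_add_not (fun it => it.2 = i) D]
    rw [detD_add, detD_filter_eq hval]

theorem split_inj {i m m' : ℕ} {D D' : Multiset (Item F)} (hD : D ∈ dataSet F i m) (hD' : D' ∈ dataSet F i m')
    (h1 : part D i = part D' i) (h2 : (D.filter fun it => ¬ it.2 = i) = D'.filter fun it => ¬ it.2 = i) : D = D' := by
  rw [← Multiset.filter_add_not (fun it => it.2 = i) D, ← Multiset.filter_add_not (fun it => it.2 = i) D', h2,
    filter_eq_of_part_eq (fun it hit => (hD.1 it hit).1) (fun it hit => (hD'.1 it hit).1) h1]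

/-- Monic polynomials of degree `d` with constant term `a`. -/
def monicConst (F : Type*) [Field F] (d : ℕ) (a : F) : Set F[X] :=
  {h | h.Monic ∧ h.natDegree = d ∧ h.coeff 0 = a}

/-- Monic polynomials of degree `d` with nonzero constant term. -/
def monicNe (F : Type*) [Field F] (d : ℕ) : Set F[X] :=
  {h | h.Monic ∧ h.natDegree = d ∧ h.coeff 0 ≠ 0}

theorem monicConst_encode (d : ℕ) (a : F) :
    Function.Injective fun (h : monicConst F (d + 1) a) (j : Fin d) => h.1.coeff (j.1 + 1) := by
  rintro ⟨h, h1, h2, h3⟩ ⟨h', h1', h2', h3'⟩ he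
  refine Subtype.ext (Polynomial.ext fun k => ?_)
  show h.coeff k = h'.coeff k
  rcases k with _ | k
  · rw [h3, h3']
  rcases lt_trichotomy k d with hk | rfl | hk
  · exact congrFun he ⟨k, hk⟩
  · have e1 := h1.coeff_natDegree
    have e2 := h1'.coeff_natDegree
    rw [h2] at e1; rw [h2'] at e2; rw [e1, e2]
  · rw [coeff_eq_zero_of_natDegree_lt (by omega), coeff_eq_zero_of_natDegree_lt (by omega)]

variable [Fintype F]

theorem finite_monicConst (d : ℕ) (a : F) :
    Finite (monicConst F (d + 1) a) ∧ Nat.card (monicConst F (d + 1) a) ≤ Fintype.card F ^ d := by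
  have hinj := monicConst_encode (F := F) d a
  refine ⟨Finite.of_injective _ hinj, ?_⟩
  have := Nat.card_le_card_of_injective _ hinj
  rw [Nat.card_fun, Nat.card_fin, Nat.card_eq_fintype_card (α := F)] at this
  exact this

theorem finite_monicNe (d : ℕ) :
    Finite (monicNe F d) ∧ Nat.card (monicNe F d) ≤ c (Fintype.card F) d := by
  classical
  rcases d with _ | d
  · have : Subsingleton (monicNe F 0) := ⟨fun h h' => Subtype.ext (by
      rw [h.2.1.natDegree_eq_zero.1 h.2.2.1, h'.2.1.natDegree_eq_zero.1 h'.2.2.1])⟩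
    exact ⟨inferInstance, by rw [c_zero]; exact Finite.card_le_one_iff_subsingleton.2 this⟩
  · haveI : ∀ u : Fˣ, Finite (monicConst F (d + 1) (u : F)) := fun u => (finite_monicConst d (u : F)).1
    let f : monicNe F (d + 1) → Σ u : Fˣ, monicConst F (d + 1) (u : F) := fun h =>
      ⟨Units.mk0 _ h.2.2.2, ⟨h.1, h.2.1, h.2.2.1, rfl⟩⟩
    have hf : Function.Injective f := fun h h' e =>
      Subtype.ext (congrArg (fun z : Σ u : Fˣ, monicConst F (d + 1) (u : F) => (z.2 : F[X])) e)
    refine ⟨Finite.of_injective f hf, (Nat.card_le_card_of_injective f hf).trans ?_⟩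
    rw [Nat.card_sigma, c_succ]
    refine (Finset.sum_le_card_nsmul Finset.univ (fun u : Fˣ => Nat.card (monicConst F (d + 1) (u : F))) _ fun u _ => (finite_monicConst d (u : F)).2).trans ?_
    rw [Finset.card_univ, Fintype.card_units, smul_eq_mul]

theorem finite_dataSet : ∀ (N i m : ℕ), 1 ≤ i → m + 1 - i ≤ N →
    Finite (dataSet F i m) ∧ Nat.card (dataSet F i m) ≤ W (Fintype.card F) i m := by
  intro N
  induction N with
  | zero =>
    intro i m hi hN
    have hsub : ∀ D ∈ dataSet F i m, D = 0 := by
      intro D hD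
      refine Multiset.eq_zero_iff_forall_notMem.2 fun it hit => ?_
      have h1 := hD.1 it hit
      obtain ⟨D', rfl⟩ := Multiset.exists_cons_of_mem hit
      have h2 := hD.2
      rw [size_cons] at h2
      have : 1 * i ≤ it.1.natDegree * it.2 := Nat.mul_le_mul h1.1.deg_pos h1.2
      omega
    haveI : Subsingleton (dataSet F i m) := ⟨fun D D' => Subtype.ext ((hsub _ D.2).trans (hsub _ D'.2).symm)⟩
    refine ⟨inferInstance, ?_⟩
    rcases Nat.eq_zero_or_pos m with rfl | hm
    · rw [W_zero]; exact Finite.card_le_one_iff_subsingleton.2 inferInstance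
    · haveI : IsEmpty (dataSet F i m) := ⟨fun D => by
        have := D.2.2
        rw [hsub _ D.2] at this
        simp [size] at this
        omega⟩
      simp
  | succ N ih =>
    intro i m hi hN
    haveI : ∀ d : Fin (m / i + 1), Finite (monicNe F d.1) := fun d => (finite_monicNe d.1).1
    haveI : ∀ d : Fin (m / i + 1), Finite (dataSet F (i + 1) (m - d.1 * i)) := fun d =>
      (ih (i + 1) (m - d.1 * i) (by omega) (by omega)).1
    have hd : ∀ D : dataSet F i m, (part D.1 i).natDegree < m / i + 1 := fun D =>
      Nat.lt_succ_iff.2 ((Nat.le_div_iff_mul_le (by omega)).2 (mem_dataSet_split D.2).1)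
    let f : dataSet F i m → Σ d : Fin (m / i + 1), monicNe F d.1 × dataSet F (i + 1) (m - d.1 * i) := fun D =>
      ⟨⟨_, hd D⟩, ⟨part D.1 i, part_monic (fun it hit => (D.2.1 it hit).1) i, rfl,
          part_coeff_ne (fun it hit => (D.2.1 it hit).1) i⟩, ⟨_, (mem_dataSet_split D.2).2.1⟩⟩
    have hf : Function.Injective f := fun D D' e =>
      Subtype.ext (split_inj D.2 D'.2
        (congrArg (fun z : Σ d : Fin (m / i + 1), monicNe F d.1 × dataSet F (i + 1) (m - d.1 * i) => (z.2.1 : F[X])) e)
        (congrArg (fun z : Σ d : Fin (m / i + 1), monicNe F d.1 × dataSet F (i + 1) (m - d.1 * i) => (z.2.2 : Multiset (Item F))) e))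
    refine ⟨Finite.of_injective f hf, (Nat.card_le_card_of_injective f hf).trans ?_⟩
    rw [Nat.card_sigma, W_rec hi, Finset.sum_range]
    exact Finset.sum_le_sum fun d _ => by
      rw [Nat.card_prod]
      exact Nat.mul_le_mul (finite_monicNe d.1).2 (ih (i + 1) _ (by omega) (by omega)).2

instance finite_dataSet_instance (i m : ℕ) : Finite (dataSet F (i + 1) m) :=
  (finite_dataSet _ (i + 1) m (by omega) le_rfl).1

theorem card_dataSet_le {i : ℕ} (hi : 1 ≤ i) (m : ℕ) : Nat.card (dataSet F i m) ≤ W (Fintype.card F) i m :=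
  (finite_dataSet _ i m hi le_rfl).2

theorem card_dataSet_one_le (n : ℕ) : Nat.card (dataSet F 1 n) ≤ totalBound (Fintype.card F) n := by
  refine (card_dataSet_le le_rfl n).trans (le_of_eq ?_)
  rw [W_rec le_rfl, totalBound, Nat.div_one]
  exact Finset.sum_congr rfl fun d _ => by rw [mul_one]

/-- Data with a prescribed determinant. -/
def detSet (F : Type*) [Field F] (n : ℕ) (u : F) : Set (Multiset (Item F)) :=
  {D | D ∈ dataSet F 1 n ∧ detD D = u}

instance finite_detSet (n : ℕ) (u : F) : Finite (detSet F n u) :=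
  Finite.of_injective (fun D : detSet F n u => (⟨D.1, D.2.1⟩ : dataSet F (0 + 1) n))
    fun _ _ h => Subtype.ext (congrArg (fun z : dataSet F (0 + 1) n => (z : Multiset (Item F))) h)

theorem coeff_zero_of_det {D : Multiset (Item F)} {d n : ℕ} {u : F} (hD : D ∈ detSet F n u)
    (hd : (part D 1).natDegree = d) :
    (part D 1).coeff 0 = u * (detD (D.filter fun it => ¬ it.2 = 1))⁻¹ * (-1) ^ d := by
  have hs := (mem_dataSet_split hD.1).2.2
  rw [hD.2, pow_one, δ, hd] at hs
  have hne : detD (D.filter fun it => ¬ it.2 = 1) ≠ 0 := by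
    refine Multiset.prod_ne_zero fun h0 => ?_
    obtain ⟨it, hit, h0'⟩ := Multiset.mem_map.1 h0
    have := (hD.1.1 it (Multiset.mem_of_mem_filter hit)).1.coeff_ne
    exact pow_ne_zero _ (mul_ne_zero (pow_ne_zero _ (neg_ne_zero.2 one_ne_zero)) this) h0'
  rw [hs, mul_assoc ((-1) ^ d * (part D 1).coeff 0), mul_inv_cancel₀ hne, mul_one, mul_comm, ← mul_assoc,
    ← mul_pow, neg_mul_neg, one_mul, one_pow, one_mul]

theorem card_detSet_le (n : ℕ) (u : F) : Nat.card (detSet F n u) ≤ detBound (Fintype.card F) n := by
  classical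
  let Tgt := (Σ a : Fin n, (Fin a.1 → F) × dataSet F (1 + 1) (n - 1 - a.1)) ⊕ dataSet F (1 + 1) n
  let f : detSet F n u → Tgt := fun D =>
    if h : (part D.1 1).natDegree = 0 then
      Sum.inr ⟨_, by have := (mem_dataSet_split D.2.1).2.1; rwa [h, Nat.zero_mul, Nat.sub_zero] at this⟩
    else
      Sum.inl ⟨⟨(part D.1 1).natDegree - 1, by have := (mem_dataSet_split D.2.1).1; omega⟩,
        fun j => (part D.1 1).coeff (j.1 + 1),
        ⟨_, by
          have := (mem_dataSet_split D.2.1).2.1
          rwa [show n - 1 - ((part D.1 1).natDegree - 1) = n - (part D.1 1).natDegree * 1 by omega]⟩⟩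
  have hmon : ∀ D : detSet F n u, (part D.1 1).Monic := fun D => part_monic (fun it hit => (D.2.1.1 it hit).1) 1
  have hf : Function.Injective f := by
    intro D D' e
    apply Subtype.ext
    by_cases h : (part D.1 1).natDegree = 0
    · by_cases h' : (part D'.1 1).natDegree = 0
      swap
      · simp only [f] at e; rw [dif_pos h, dif_neg h'] at e; exact absurd e (by simp)
      simp only [f] at e
      rw [dif_pos h, dif_pos h'] at e
      refine split_inj D.2.1 D'.2.1 ?_ (congrArg (fun z : dataSet F (1 + 1) n => (z : Multiset (Item F))) (Sum.inr.inj e))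
      rw [(hmon D).natDegree_eq_zero.1 h, (hmon D').natDegree_eq_zero.1 h']
    · by_cases h' : (part D'.1 1).natDegree = 0
      · simp only [f] at e; rw [dif_neg h, dif_pos h'] at e; exact absurd e (by simp)
      simp only [f] at e
      rw [dif_neg h, dif_neg h'] at e
      replace e := Sum.inl.inj e
      have hr : (D.1.filter fun it => ¬ it.2 = 1) = D'.1.filter fun it => ¬ it.2 = 1 :=
        congrArg (fun z : Σ a : Fin n, (Fin a.1 → F) × dataSet F (1 + 1) (n - 1 - a.1) => (z.2.2 : Multiset (Item F))) e
      have hdeg : (part D.1 1).natDegree = (part D'.1 1).natDegree := by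
        have := congrArg (fun z : Σ a : Fin n, (Fin a.1 → F) × dataSet F (1 + 1) (n - 1 - a.1) => z.1.1) e
        simp only at this
        omega
      refine split_inj D.2.1 D'.2.1 (Polynomial.ext fun k => ?_) hr
      rcases k with _ | k
      · rw [coeff_zero_of_det D.2 rfl, coeff_zero_of_det D'.2 hdeg.symm, hr]
      · have hcongr : ∀ {z z' : Σ a : Fin n, (Fin a.1 → F) × dataSet F (1 + 1) (n - 1 - a.1)}, z = z' →
            ∀ (hk : k < z.1.1) (hk' : k < z'.1.1), z.2.1 ⟨k, hk⟩ = z'.2.1 ⟨k, hk'⟩ := by
          rintro z _ rfl hk hk'; rfl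
        rcases lt_trichotomy (k + 1) (part D.1 1).natDegree with hk | hk | hk
        · exact hcongr e (show k < (part D.1 1).natDegree - 1 by omega) (show k < (part D'.1 1).natDegree - 1 by omega)
        · rw [hk, (hmon D).coeff_natDegree, hdeg, (hmon D').coeff_natDegree]
        · rw [coeff_eq_zero_of_natDegree_lt hk, coeff_eq_zero_of_natDegree_lt (hdeg ▸ hk)]
  refine (Nat.card_le_card_of_injective f hf).trans ?_
  rw [Nat.card_sum, Nat.card_sigma, detBound, Finset.sum_range]
  refine Nat.add_le_add (Finset.sum_le_sum fun a _ => ?_) (card_dataSet_le (by norm_num) n)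
  rw [Nat.card_prod, Nat.card_fun, Nat.card_eq_fintype_card, Nat.card_eq_fintype_card, Fintype.card_fin]
  exact Nat.mul_le_mul_left _ (card_dataSet_le (by norm_num) _)

theorem card_detSet_two_le (u : F) : Nat.card (detSet F 2 u) ≤ Fintype.card F + 2 := by
  classical
  let A := {D : detSet F 2 u // (part D.1 1).natDegree = 0}
  let B := {D : detSet F 2 u // ¬ (part D.1 1).natDegree = 0}
  have hA : Nat.card A ≤ 2 := by
    have key : ∀ D : A, ∃ P : F[X], D.1.1 = {(P, 2)} ∧ P.natDegree = 1 ∧ IsItem ((P, 2) : Item F) := by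
      rintro ⟨⟨D, hD⟩, h0⟩
      have hrest := (mem_dataSet_split hD.1).2.1
      rw [h0, Nat.zero_mul, Nat.sub_zero] at hrest
      have hsplit : (D.filter fun it => ¬ it.2 = 1) = D := by
        rw [Multiset.filter_eq_self]
        intro it hit he
        have h1 := size_filter_eq (fun it hit => (hD.1.1 it hit).1) 1
        rw [show (part D 1).natDegree = 0 from h0, Nat.zero_mul] at h1
        have := eq_zero_of_size (fun it hit => (hD.1.1 it (Multiset.mem_of_mem_filter hit)).1) h1
        exact Multiset.notMem_zero it (this ▸ Multiset.mem_filter.2 ⟨hit, he⟩)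
      rw [hsplit] at hrest
      obtain ⟨it, hit⟩ := Multiset.exists_mem_of_ne_zero (s := D) (by
        rintro rfl; exact absurd hrest.2 (by simp [size]))
      obtain ⟨D', rfl⟩ := Multiset.exists_cons_of_mem hit
      have h2 := hrest.2
      rw [size_cons] at h2
      obtain ⟨hi, hge⟩ := hrest.1 it hit
      have hge : 2 ≤ it.2 := hge
      have hdp := hi.deg_pos
      have hmul : 1 * 2 ≤ it.1.natDegree * it.2 := Nat.mul_le_mul hdp hge
      have hz : D' = 0 := eq_zero_of_size (fun j hj => (hrest.1 j (Multiset.mem_cons_of_mem hj)).1) (by omega)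
      have hprod : it.1.natDegree * it.2 = 2 := by rw [hz] at h2; simpa [size] using h2
      have hd1 : it.1.natDegree = 1 := by nlinarith
      have he2 : it.2 = 2 := by rw [hd1, one_mul] at hprod; exact hprod
      have hit2 : ((it.1, 2) : Item F) = it := Prod.ext rfl he2.symm
      refine ⟨it.1, ?_, hd1, by rw [hit2]; exact hi⟩
      rw [hit2]
      subst hz; rfl
    choose P hP1 hP2 hP3 using key
    have hinj : Function.Injective (fun D : A => (P D).coeff 0) := by
      intro D D' e
      apply Subtype.ext; apply Subtype.ext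
      rw [hP1 D, hP1 D', (show (P D).Monic from (hP3 D).monic).eq_X_add_C (hP2 D),
        (show (P D').Monic from (hP3 D').monic).eq_X_add_C (hP2 D')]
      simp only at e
      rw [e]
    have hsq : ∀ D : A, (P D).coeff 0 ∈ (nthRoots 2 u).toFinset := by
      intro D
      rw [Multiset.mem_toFinset, mem_nthRoots two_pos]
      have := D.1.2.2
      rw [hP1 D] at this
      simp [detD, δ, hP2 D] at this
      exact this
    calc Nat.card A ≤ Nat.card (nthRoots 2 u).toFinset :=
          Nat.card_le_card_of_injective (fun D => ⟨_, hsq D⟩) fun D D' e => hinj (congrArg Subtype.val e)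
      _ ≤ 2 := by
          rw [Nat.card_eq_finsetCard]
          exact (Multiset.toFinset_card_le _).trans (card_nthRoots 2 u)
  have hB : Nat.card B ≤ Fintype.card F := by
    have key : ∀ D : B, (part D.1.1 1).natDegree = 2 ∧ (D.1.1.filter fun it => ¬ it.2 = 1) = 0 := by
      intro D
      have hle := (mem_dataSet_split D.1.2.1).1
      have hne := D.2
      have hrest := (mem_dataSet_split D.1.2.1).2.1
      by_cases he : (D.1.1.filter fun it => ¬ it.2 = 1) = 0
      · refine ⟨?_, he⟩
        rw [he] at hrest
        have := hrest.2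
        simp [size] at this
        omega
      · obtain ⟨it, hit⟩ := Multiset.exists_mem_of_ne_zero he
        obtain ⟨E', hE'⟩ := Multiset.exists_cons_of_mem hit
        rw [hE'] at hrest
        have h2 := hrest.2
        rw [size_cons] at h2
        obtain ⟨hi, hge⟩ := hrest.1 it (Multiset.mem_cons_self _ _)
        have : 1 * 2 ≤ it.1.natDegree * it.2 := Nat.mul_le_mul hi.deg_pos hge
        omega
    have hg : Function.Injective (fun D : B => (part D.1.1 1).coeff 1) := by
      intro D D' e
      apply Subtype.ext; apply Subtype.ext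
      obtain ⟨hd, hr⟩ := key D
      obtain ⟨hd', hr'⟩ := key D'
      refine split_inj D.1.2.1 D'.1.2.1 (Polynomial.ext fun k => ?_) (hr.trans hr'.symm)
      have hm := part_monic (fun it hit => (D.1.2.1.1 it hit).1) 1
      have hm' := part_monic (fun it hit => (D'.1.2.1.1 it hit).1) 1
      match k with
      | 0 => rw [coeff_zero_of_det D.1.2 hd, coeff_zero_of_det D'.1.2 hd', hr, hr']
      | 1 => exact e
      | 2 =>
        have e1 := hm.coeff_natDegree
        have e2 := hm'.coeff_natDegree
        rw [hd] at e1; rw [hd'] at e2; rw [e1, e2]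
      | k + 3 => rw [coeff_eq_zero_of_natDegree_lt (by omega), coeff_eq_zero_of_natDegree_lt (by omega)]
    exact (Nat.card_le_card_of_injective _ hg).trans (le_of_eq Nat.card_eq_fintype_card)
  calc Nat.card (detSet F 2 u) = Nat.card A + Nat.card B := by
        rw [← Nat.card_sum]
        exact Nat.card_congr (Equiv.sumCompl fun D : detSet F 2 u => (part D.1 1).natDegree = 0).symm
    _ ≤ _ := by omega

/-- A bound for the data of given weight and determinant, sharp enough in weight 2. -/
def detB (q m : ℕ) : ℕ := if m = 2 then q + 2 else detBound q m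

theorem card_detSet_le_detB (m : ℕ) (u : F) : Nat.card (detSet F m u) ≤ detB (Fintype.card F) m := by
  unfold detB
  split_ifs with h
  · subst h; exact card_detSet_two_le u
  · exact card_detSet_le m u

end CfsgLib.ClassCount
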