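import Cfsg.Agent.ClassCount.Data

set_option autoImplicit false

/-!
Elementary-divisor decompositions of invertible matrices: existence, uniqueness of the data, behaviour under
conjugation and scaling, and determinants in the centraliser.
-/

namespace CfsgLib.ClassCount

open Polynomial

variable {F : Type*} [Field F] {n : ℕ}

local notation "Mn" => Matrix (Fin n) (Fin n) F

/-- A decomposition of `F^n` under `g` into cyclic modules with prime-power polynomials. -/
structure Decomp (g : Mn) where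
  k : ℕ
  P : Fin k → F[X]
  e : Fin k → ℕ
  item : ∀ i, IsItem (P i, e i)
  φ : (Fin n → F) ≃ₗ[F] ((i : Fin k) → AdjoinRoot (P i ^ e i))
  map_mulVec : ∀ v i, φ (g.mulVec v) i = AdjoinRoot.root (P i ^ e i) * φ v i

/-- The multiset of elementary divisors. -/
def Decomp.data {g : Mn} (d : Decomp g) : Multiset (Item F) :=
  (Finset.univ : Finset (Fin d.k)).val.map fun i => (d.P i, d.e i)

theorem finrank_adjoinRoot {f : F[X]} (hf : f ≠ 0) : Module.finrank F (AdjoinRoot f) = f.natDegree := by
  rw [(AdjoinRoot.powerBasis hf).finrank, AdjoinRoot.powerBasis_dim]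

theorem finite_adjoinRoot {f : F[X]} (hf : f ≠ 0) : Module.Finite F (AdjoinRoot f) :=
  (AdjoinRoot.powerBasis hf).finite

theorem det_pi_dep {k : ℕ} {M : Fin k → Type*} [∀ i, AddCommGroup (M i)] [∀ i, Module F (M i)]
    [∀ i, Module.Finite F (M i)] (f : (i : Fin k) → M i →ₗ[F] M i) :
    LinearMap.det (LinearMap.pi fun i => (f i).comp (LinearMap.proj i)) = ∏ i, LinearMap.det (f i) := by
  classical
  let b := fun i => Module.Free.chooseBasis F (M i)
  let B := Pi.basis b
  rw [← LinearMap.det_toMatrix B]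
  have e : LinearMap.toMatrix B B (LinearMap.pi fun i => (f i).comp (LinearMap.proj i)) =
      Matrix.blockDiagonal' fun i => LinearMap.toMatrix (b i) (b i) (f i) := by
    ext ⟨i, x⟩ ⟨j, y⟩
    rw [LinearMap.toMatrix_apply, Pi.basis_repr]
    by_cases h : i = j
    · subst h
      simp [B, Matrix.blockDiagonal'_apply_eq, LinearMap.toMatrix_apply, Pi.basis_apply]
    · rw [Matrix.blockDiagonal'_apply_ne _ _ _ h]
      simp [B, Pi.basis_apply, Pi.single_eq_of_ne h]
  rw [e, (Matrix.blockTriangular_blockDiagonal' _).det_fintype]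
  refine Finset.prod_congr rfl fun i _ => ?_
  rw [← LinearMap.det_toMatrix (b i) (f i), ← Matrix.det_submatrix_equiv_self (Equiv.sigmaSubtype i).symm]
  congr 1
  ext x y
  simp [Matrix.toSquareBlock_def, Equiv.sigmaSubtype, Matrix.blockDiagonal'_apply_eq]

theorem det_lmul_root {f : F[X]} (hf : f.Monic) :
    LinearMap.det (LinearMap.mulLeft F (AdjoinRoot.root f)) = δ f := by
  have e := Algebra.PowerBasis.norm_gen_eq_coeff_zero_minpoly (AdjoinRoot.powerBasis hf.ne_zero)
  rw [AdjoinRoot.powerBasis_dim, AdjoinRoot.powerBasis_gen, AdjoinRoot.minpoly_root hf.ne_zero, hf.leadingCoeff,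
    inv_one, map_one, mul_one] at e
  exact e

theorem map_aeval {g : Mn} (d : Decomp g) (f : F[X]) (v : Fin n → F) (i : Fin d.k) :
    d.φ ((aeval g f).mulVec v) i = AdjoinRoot.mk (d.P i ^ d.e i) f * d.φ v i := by
  induction f using Polynomial.induction_on' generalizing v with
  | add p q hp hq =>
    rw [map_add, Matrix.add_mulVec, map_add, Pi.add_apply, hp, hq, map_add, add_mul]
  | monomial m a =>
    rw [← C_mul_X_pow_eq_monomial, map_mul, map_mul, aeval_C, Algebra.algebraMap_eq_smul_one, smul_mul_assoc, one_mul,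
      Matrix.smul_mulVec, map_smul, Pi.smul_apply, Algebra.smul_def, AdjoinRoot.algebraMap_eq, AdjoinRoot.mk_C,
      map_pow, aeval_X, map_pow, AdjoinRoot.mk_X, mul_assoc]
    congr 1
    induction m generalizing v with
    | zero => simp
    | succ m ih => rw [pow_succ, pow_succ, ← Matrix.mulVec_mulVec, ih, d.map_mulVec, mul_assoc]

theorem Decomp.size_eq {g : Mn} (d : Decomp g) : size d.data = n := by
  haveI : ∀ i, Module.Finite F (AdjoinRoot (d.P i ^ d.e i)) := fun i =>
    finite_adjoinRoot (pow_ne_zero _ (d.item i).monic.ne_zero)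
  have h := d.φ.finrank_eq
  rw [Module.finrank_fin_fun, Module.finrank_pi_fintype] at h
  rw [size, Decomp.data, Multiset.map_map, ← Finset.sum_eq_multiset_sum]
  refine Eq.trans ?_ h.symm
  exact Finset.sum_congr rfl fun i _ => by
    rw [finrank_adjoinRoot (pow_ne_zero _ (d.item i).monic.ne_zero), natDegree_pow, mul_comm]
    rfl

theorem Decomp.mem_data {g : Mn} (d : Decomp g) : d.data ∈ dataSet F 1 n := by
  refine ⟨fun it hit => ?_, d.size_eq⟩
  obtain ⟨i, -, rfl⟩ := Multiset.mem_map.1 hit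
  exact ⟨d.item i, (d.item i).pos⟩

theorem det_of_diag {g h : Mn} (d : Decomp g) (f : (i : Fin d.k) → AdjoinRoot (d.P i ^ d.e i))
    (hh : ∀ v i, d.φ (h.mulVec v) i = f i * d.φ v i) :
    h.det = ∏ i, LinearMap.det (LinearMap.mulLeft F (f i)) := by
  haveI : ∀ i, Module.Finite F (AdjoinRoot (d.P i ^ d.e i)) := fun i =>
    finite_adjoinRoot (pow_ne_zero _ (d.item i).monic.ne_zero)
  rw [← det_pi_dep (fun i => LinearMap.mulLeft F (f i)), ← LinearMap.det_toLin']
  have e : (LinearMap.pi fun i => (LinearMap.mulLeft F (f i)).comp (LinearMap.proj i)) =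
      (d.φ.toLinearMap.comp (Matrix.toLin' h)).comp d.φ.symm.toLinearMap := by
    refine LinearMap.ext fun w => funext fun i => ?_
    simp [hh]
  rw [e]
  exact (LinearMap.det_conj (Matrix.toLin' h) d.φ).symm

theorem Decomp.det_eq {g : Mn} (d : Decomp g) : g.det = detD d.data := by
  rw [det_of_diag d (fun i => AdjoinRoot.root _) d.map_mulVec, detD, Decomp.data, Multiset.map_map,
    ← Finset.prod_eq_multiset_prod]
  exact Finset.prod_congr rfl fun i _ => by
    rw [det_lmul_root ((d.item i).monic.pow _), δ_pow (d.item i).monic.ne_zero]; rfl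

theorem exists_decomp (g : Mn) (hg : g.det ≠ 0) : Nonempty (Decomp g) := by
  classical
  let L : (Fin n → F) →ₗ[F] (Fin n → F) := Matrix.toLin' g
  obtain ⟨ι, _, p, hp, e, ⟨e0⟩⟩ := Module.equiv_directSum_of_isTorsion
    (R := F[X]) (M := Module.AEval' L) (Module.AEval.isTorsion_of_finiteDimensional F (Fin n → F) L)
  let P : ι → F[X] := fun i => normalize (p i)
  let ψ : (i : ι) → (F[X] ⧸ F[X] ∙ p i ^ e i) ≃ₗ[F] AdjoinRoot (P i ^ e i) := fun i =>
    (Submodule.quotEquivOfEq _ (Ideal.span {P i ^ e i})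
      (Ideal.span_singleton_eq_span_singleton.2 ((normalize_associated (p i)).symm.pow_pow))).restrictScalars F
  have hψ : ∀ (i : ι) (a : F[X] ⧸ F[X] ∙ p i ^ e i), ψ i ((X : F[X]) • a) = AdjoinRoot.root _ * ψ i a := by
    intro i a
    obtain ⟨a, rfl⟩ := Submodule.Quotient.mk_surjective _ a
    rfl
  let σ : Fin (Fintype.card {i // e i ≠ 0}) ≃ {i // e i ≠ 0} := (Fintype.equivFin _).symm
  let comp : (Fin n → F) → (i : ι) → AdjoinRoot (P i ^ e i) := fun v i =>
    ψ i ((e0 (Module.AEval'.of L v)) i)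
  let Φ : (Fin n → F) →ₗ[F] ((j : Fin (Fintype.card {i // e i ≠ 0})) → AdjoinRoot (P (σ j).1 ^ e (σ j).1)) :=
    { toFun := fun v j => comp v (σ j).1
      map_add' := fun v w => funext fun j => by simp [comp]
      map_smul' := fun a v => funext fun j => by
        simp only [comp, map_smul, RingHom.id_apply, Pi.smul_apply]
        rw [show e0 (a • Module.AEval'.of L v) = a • e0 (Module.AEval'.of L v) from
          e0.toLinearMap.map_smul_of_tower a _]
        exact (ψ (σ j).1).map_smul a _ }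
  have hsub : ∀ i, e i = 0 → Subsingleton (AdjoinRoot (P i ^ e i)) := by
    intro i hi
    refine subsingleton_iff_zero_eq_one.1 ?_
    rw [← map_one (AdjoinRoot.mk (P i ^ e i)), eq_comm, AdjoinRoot.mk_eq_zero, hi, pow_zero]
  have hbij : Function.Bijective Φ := by
    constructor
    · intro v w h
      apply (Module.AEval'.of L).injective
      apply e0.injective
      refine DFinsupp.ext fun i => ?_
      apply (ψ i).injective
      by_cases hi : e i = 0
      · haveI := hsub i hi; exact Subsingleton.elim _ _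
      · have := congrFun h (σ.symm ⟨i, hi⟩)
        have hk : ∀ s : {i // e i ≠ 0}, s = ⟨i, hi⟩ → comp v s.1 = comp w s.1 →
            ψ i (e0 (Module.AEval'.of L v) i) = ψ i (e0 (Module.AEval'.of L w) i) := by
          rintro _ rfl h; exact h
        exact hk _ (σ.apply_symm_apply _) this
    · intro u
      let G : (s : {i // e i ≠ 0}) → AdjoinRoot (P s.1 ^ e s.1) :=
        Equiv.piCongrLeft (fun s : {i // e i ≠ 0} => AdjoinRoot (P s.1 ^ e s.1)) σ u
      let u' : (i : ι) → F[X] ⧸ F[X] ∙ p i ^ e i := fun i =>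
        if hi : e i = 0 then 0 else (ψ i).symm (G ⟨i, hi⟩)
      refine ⟨(Module.AEval'.of L).symm (e0.symm (DFinsupp.equivFunOnFintype.symm u')), funext fun j => ?_⟩
      show comp _ _ = _
      simp only [comp, LinearEquiv.apply_symm_apply]
      show ψ _ (u' (σ j).1) = _
      simp only [u', dif_neg (σ j).2, LinearEquiv.apply_symm_apply]
      exact Equiv.piCongrLeft_apply_apply (fun s : {i // e i ≠ 0} => AdjoinRoot (P s.1 ^ e s.1)) σ u j
  have hmap : ∀ v j, LinearEquiv.ofBijective Φ hbij (g.mulVec v) j = AdjoinRoot.root _ * LinearEquiv.ofBijective Φ hbij v j := by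
    intro v j
    show comp (g.mulVec v) (σ j).1 = _ * comp v (σ j).1
    simp only [comp]
    rw [show Module.AEval'.of L (g.mulVec v) = (X : F[X]) • Module.AEval'.of L v from
      (Module.AEval'.X_smul_of L v).symm, map_smul]
    exact hψ _ _
  refine ⟨⟨_, _, _, fun j => ⟨monic_normalize (hp _).ne_zero, Associated.irreducible (normalize_associated _).symm (hp _), ?_,
    Nat.one_le_iff_ne_zero.2 (σ j).2⟩, LinearEquiv.ofBijective Φ hbij, hmap⟩⟩
  intro h0
  have hX : (X : F[X]) ∣ P (σ j).1 := X_dvd_iff.2 h0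
  have hPX : P (σ j).1 = X :=
    (eq_of_monic_of_associated monic_X (monic_normalize (hp _).ne_zero)
      (irreducible_X.associated_of_dvd (Associated.irreducible (normalize_associated _).symm (hp _)) hX)).symm
  set E := e (σ j).1 with hE
  have hEpos : E ≠ 0 := (σ j).2
  let u : (j' : Fin (Fintype.card {i // e i ≠ 0})) → AdjoinRoot (P (σ j').1 ^ e (σ j').1) :=
    Pi.single j (AdjoinRoot.mk _ (X ^ (E - 1)))
  obtain ⟨v, hv⟩ := (LinearEquiv.ofBijective Φ hbij).surjective u
  have hgv : g.mulVec v = 0 := by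
    apply (LinearEquiv.ofBijective Φ hbij).injective
    rw [map_zero]
    funext j'
    rw [hmap, hv, Pi.zero_apply]
    by_cases hjj : j' = j
    · subst hjj
      simp only [u, Pi.single_eq_same]
      rw [← AdjoinRoot.mk_X, ← map_mul, AdjoinRoot.mk_eq_zero, ← pow_succ', Nat.sub_add_cancel (by omega), hPX]
    · simp [u, Pi.single_eq_of_ne hjj]
  have hv0 : v ≠ 0 := by
    intro h
    rw [h, map_zero] at hv
    have := congrFun hv j
    simp only [u, Pi.single_eq_same, Pi.zero_apply] at this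
    have hdvd := AdjoinRoot.mk_eq_zero.1 this.symm
    rw [hPX, pow_dvd_pow_iff X_ne_zero not_isUnit_X] at hdvd
    omega
  exact hv0 (Matrix.eq_zero_of_mulVec_eq_zero hg hgv)

/-- Chosen data of an invertible matrix. -/
noncomputable def dataOf (g : GL (Fin n) F) : Multiset (Item F) :=
  (Classical.choice (exists_decomp (g : Mn) (Matrix.GeneralLinearGroup.det_ne_zero g))).data

section

variable [Fintype F]

theorem card_adjoinRoot {f : F[X]} (hf : f ≠ 0) : Nat.card (AdjoinRoot f) = Fintype.card F ^ f.natDegree := by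
  haveI := finite_adjoinRoot hf
  haveI : Finite (AdjoinRoot f) := Module.finite_of_finite F
  letI : Fintype (AdjoinRoot f) := Fintype.ofFinite _
  rw [Nat.card_eq_fintype_card, Module.card_eq_pow_finrank (K := F), finrank_adjoinRoot hf]

theorem card_kernel {P Q : F[X]} (hP : IsItem (P, 1)) (hQ : IsItem (Q, 1)) [Decidable (P = Q)] (e k : ℕ) :
    Nat.card {a : AdjoinRoot (P ^ e) // AdjoinRoot.mk (P ^ e) (Q ^ k) * a = 0} =
      Fintype.card F ^ (if P = Q then Q.natDegree * min k e else 0) := by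
  split_ifs with h
  · subst h
    rcases Nat.lt_or_ge k e with hk | hk
    · rw [min_eq_left hk.le]
      let f : AdjoinRoot (P ^ e) →ₐ[F] AdjoinRoot (P ^ (e - k)) :=
        AdjoinRoot.liftAlgHom (P ^ e) (Algebra.ofId F _) (AdjoinRoot.root _) (by
          show aeval _ _ = 0
          rw [AdjoinRoot.aeval_eq, AdjoinRoot.mk_eq_zero]; exact pow_dvd_pow P (Nat.sub_le e k))
      have hfmk : ∀ a, f (AdjoinRoot.mk _ a) = AdjoinRoot.mk _ a := fun a => by
        rw [AdjoinRoot.liftAlgHom_mk]
        exact AdjoinRoot.aeval_eq a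
      have hker : Nat.card {a : AdjoinRoot (P ^ e) // AdjoinRoot.mk (P ^ e) (P ^ k) * a = 0} =
          Nat.card f.toRingHom.toAddMonoidHom.ker := by
        refine Nat.card_congr (Equiv.subtypeEquivRight fun a => ?_)
        obtain ⟨a, rfl⟩ := AdjoinRoot.mk_surjective a
        rw [← map_mul, AdjoinRoot.mk_eq_zero, AddMonoidHom.mem_ker]
        show _ ↔ f (AdjoinRoot.mk _ a) = 0
        rw [hfmk, AdjoinRoot.mk_eq_zero]
        conv_lhs => rw [show P ^ e = P ^ k * P ^ (e - k) by rw [← pow_add, Nat.add_sub_cancel' hk.le]]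
        exact mul_dvd_mul_iff_left (pow_ne_zero _ hP.monic.ne_zero)
      rw [hker]
      have hmul := AddSubgroup.card_eq_card_quotient_mul_card_addSubgroup f.toRingHom.toAddMonoidHom.ker
      have hsurj : Function.Surjective f.toRingHom.toAddMonoidHom := fun b => by
        obtain ⟨b, rfl⟩ := AdjoinRoot.mk_surjective b
        exact ⟨AdjoinRoot.mk _ b, hfmk b⟩
      rw [Nat.card_congr (QuotientAddGroup.quotientKerEquivOfSurjective _ hsurj).toEquiv,
        card_adjoinRoot (pow_ne_zero _ hP.monic.ne_zero), card_adjoinRoot (pow_ne_zero _ hP.monic.ne_zero),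
        natDegree_pow, natDegree_pow] at hmul
      refine Nat.eq_of_mul_eq_mul_left (show 0 < Fintype.card F ^ ((e - k) * P.natDegree) from
        pow_pos Fintype.card_pos _) ?_
      rw [← hmul, ← pow_add]
      congr 1
      rw [mul_comm P.natDegree k, ← add_mul, Nat.sub_add_cancel hk.le]
    · rw [min_eq_right hk, Nat.card_congr (Equiv.subtypeUnivEquiv (fun a => by
        rw [show AdjoinRoot.mk (P ^ e) (P ^ k) = 0 from AdjoinRoot.mk_eq_zero.2 (pow_dvd_pow P hk), zero_mul])),
        card_adjoinRoot (pow_ne_zero _ hP.monic.ne_zero), natDegree_pow, mul_comm]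
  · rw [pow_zero]
    have hcop : IsCoprime (P ^ e) (Q ^ k) :=
      (hP.irr.coprime_iff_not_dvd.2 fun hd => h
        (eq_of_monic_of_associated hP.monic hQ.monic (hP.irr.associated_of_dvd hQ.irr hd))).pow
    obtain ⟨x, y, hxy⟩ := hcop
    haveI : Subsingleton {a : AdjoinRoot (P ^ e) // AdjoinRoot.mk (P ^ e) (Q ^ k) * a = 0} := ⟨fun a b => by
      have h1 : ∀ c : {a : AdjoinRoot (P ^ e) // AdjoinRoot.mk (P ^ e) (Q ^ k) * a = 0}, c.1 = 0 := by
        intro c
        have := congrArg (fun z => AdjoinRoot.mk (P ^ e) z * c.1) hxy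
        simp only [map_add, map_mul, AdjoinRoot.mk_self, mul_zero, zero_add, map_one, one_mul] at this
        rw [← this, mul_assoc, c.2, mul_zero]
      exact Subtype.ext ((h1 a).trans (h1 b).symm)⟩
    haveI : Nonempty {a : AdjoinRoot (P ^ e) // AdjoinRoot.mk (P ^ e) (Q ^ k) * a = 0} := ⟨⟨0, mul_zero _⟩⟩
    exact Nat.card_eq_one_iff_unique.2 ⟨inferInstance, inferInstance⟩

theorem Decomp.kernel_count [DecidableEq F[X]] {g : Mn} (d : Decomp g) {Q : F[X]} (hQ : IsItem (Q, 1)) (k : ℕ) :
    Nat.card {v : Fin n → F // (aeval g (Q ^ k)).mulVec v = 0} =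
      Fintype.card F ^ (Q.natDegree * (d.data.map fun it => if it.1 = Q then min k it.2 else 0).sum) := by
  have e : Nat.card {v : Fin n → F // (aeval g (Q ^ k)).mulVec v = 0} =
      Nat.card ((i : Fin d.k) → {a : AdjoinRoot (d.P i ^ d.e i) // AdjoinRoot.mk _ (Q ^ k) * a = 0}) :=
    Nat.card_congr ((Equiv.subtypeEquiv d.φ.toEquiv fun v => by
      rw [← d.φ.map_eq_zero_iff]
      constructor
      · intro h i; rw [LinearEquiv.coe_toEquiv, ← map_aeval, h]; rfl
      · intro h; funext i; rw [map_aeval]; exact h i).trans Equiv.subtypePiEquivPi)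
  rw [e, Nat.card_pi, Decomp.data, Multiset.map_map, ← Finset.sum_eq_multiset_sum, Finset.mul_sum,
    ← Finset.prod_pow_eq_pow_sum]
  refine Finset.prod_congr rfl fun i _ => ?_
  rw [card_kernel ⟨(d.item i).monic, (d.item i).irr, (d.item i).coeff_ne, le_rfl⟩ hQ]
  simp only [Function.comp_apply, mul_ite, mul_zero]

theorem count_eq_of_sums [DecidableEq F[X]] {D : Multiset (Item F)} (hD : ∀ it ∈ D, IsItem it) (Q : F[X]) (e : ℕ) :
    D.count (Q, e + 1) + (D.map fun it => if it.1 = Q then min (e + 2) it.2 else 0).sum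
      + (D.map fun it => if it.1 = Q then min e it.2 else 0).sum
      = 2 * (D.map fun it => if it.1 = Q then min (e + 1) it.2 else 0).sum := by
  induction D using Multiset.induction with
  | empty => simp
  | cons a D ih =>
    have ihh := ih fun it hit => hD it (Multiset.mem_cons_of_mem hit)
    simp only [Multiset.map_cons, Multiset.sum_cons, Multiset.count_cons]
    obtain ⟨A, E⟩ := a
    by_cases h : A = Q
    · subst h
      simp only [if_true, Prod.mk.injEq, true_and]
      by_cases hE : e + 1 = E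
      · subst hE; simp only [if_true]; omega
      · simp only [if_neg hE]; omega
    · have h' : ¬ ((Q, e + 1) : Item F) = (A, E) := fun hh => h (congrArg Prod.fst hh).symm
      simp only [if_neg h, if_neg h']; omega

/-- The elementary divisors are determined by the matrix. -/
theorem Decomp.data_unique {g : Mn} (d d' : Decomp g) : d.data = d'.data := by
  classical
  have hs : ∀ (Q : F[X]), IsItem (Q, 1) → ∀ k,
      (d.data.map fun it => if it.1 = Q then min k it.2 else 0).sum =
      (d'.data.map fun it => if it.1 = Q then min k it.2 else 0).sum := by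
    intro Q hQ k
    have h := (d.kernel_count hQ k).symm.trans (d'.kernel_count hQ k)
    exact Nat.eq_of_mul_eq_mul_left hQ.deg_pos (Nat.pow_right_injective Fintype.one_lt_card h)
  refine Multiset.ext.2 fun it => ?_
  obtain ⟨Q, e⟩ := it
  by_cases hitem : IsItem (Q, e)
  · obtain ⟨e, rfl⟩ : ∃ e', e = e' + 1 := ⟨e - 1, by have := hitem.pos; simp at this; omega⟩
    have hQ : IsItem (Q, 1) := ⟨hitem.monic, hitem.irr, hitem.coeff_ne, le_rfl⟩
    have h1 := count_eq_of_sums (fun it hit => (d.mem_data.1 it hit).1) Q e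
    have h2 := count_eq_of_sums (fun it hit => (d'.mem_data.1 it hit).1) Q e
    rw [hs Q hQ, hs Q hQ, hs Q hQ] at h1
    omega
  · rw [Multiset.count_eq_zero.2 fun h => hitem (d.mem_data.1 _ h).1,
      Multiset.count_eq_zero.2 fun h => hitem (d'.mem_data.1 _ h).1]

theorem dataOf_eq {g : GL (Fin n) F} (d : Decomp (g : Mn)) : dataOf g = d.data :=
  Decomp.data_unique _ d

end

/-- Transport along conjugation. -/
noncomputable def Decomp.conj {g : Mn} (d : Decomp g) (P : GL (Fin n) F) :
    Decomp ((P : Mn) * g * ((P⁻¹ : GL (Fin n) F) : Mn)) where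
  k := d.k
  P := d.P
  e := d.e
  item := d.item
  φ := (Matrix.toLin'OfInv (M := (P : Mn)) (M' := ((P⁻¹ : GL (Fin n) F) : Mn))
    (by rw [← Units.val_mul, mul_inv_cancel, Units.val_one])
    (by rw [← Units.val_mul, inv_mul_cancel, Units.val_one])).trans d.φ
  map_mulVec v i := by
    show d.φ (Matrix.toLin' ((P⁻¹ : GL (Fin n) F) : Mn) (((P : Mn) * g * ((P⁻¹ : GL (Fin n) F) : Mn)).mulVec v)) i =
      _ * d.φ (Matrix.toLin' ((P⁻¹ : GL (Fin n) F) : Mn) v) i
    rw [Matrix.toLin'_apply, Matrix.toLin'_apply, Matrix.mulVec_mulVec, ← mul_assoc, ← mul_assoc, ← Units.val_mul,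
      inv_mul_cancel, Units.val_one, one_mul, ← Matrix.mulVec_mulVec, d.map_mulVec]

theorem exists_perm_of_map_eq {α : Type*} {k k' : ℕ} (f : Fin k → α) (f' : Fin k' → α)
    (h : (Finset.univ : Finset (Fin k)).val.map f = (Finset.univ : Finset (Fin k')).val.map f') :
    ∃ σ : Fin k ≃ Fin k', ∀ i, f' (σ i) = f i := by
  classical
  have hc : ∀ a, Fintype.card {i // f i = a} = Fintype.card {i // f' i = a} := by
    intro a
    have := congrArg (Multiset.count a) h
    rw [Multiset.count_map, Multiset.count_map] at this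
    rw [Fintype.card_subtype, Fintype.card_subtype]
    simp only [eq_comm (a := a)] at this
    exact this
  exact ⟨Equiv.ofFiberEquiv fun a => Fintype.equivOfCardEq (hc a), Equiv.ofFiberEquiv_map _⟩

/-- Equal data means conjugate. -/
theorem isConj_of_data_eq {g h : GL (Fin n) F} (d : Decomp (g : Mn)) (d' : Decomp (h : Mn))
    (he : d.data = d'.data) : IsConj g h := by
  obtain ⟨σ, hσ⟩ := exists_perm_of_map_eq _ _ he
  have hPe : ∀ i, d.P i ^ d.e i = d'.P (σ i) ^ d'.e (σ i) := fun i => by
    have h1 : d'.P (σ i) = d.P i := congrArg Prod.fst (hσ i)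
    have h2 : d'.e (σ i) = d.e i := congrArg Prod.snd (hσ i)
    rw [h1, h2]
  let c : (i : Fin d.k) → AdjoinRoot (d.P i ^ d.e i) ≃ₗ[F] AdjoinRoot (d'.P (σ i) ^ d'.e (σ i)) := fun i =>
    (AdjoinRoot.algEquivOfEq F _ _ (hPe i)).toLinearEquiv
  let T : (Fin n → F) ≃ₗ[F] (Fin n → F) :=
    d.φ.trans ((LinearEquiv.piCongrRight c).trans ((LinearEquiv.piCongrLeft F _ σ).trans d'.φ.symm))
  have hT : ∀ v i, d'.φ (T v) (σ i) = c i (d.φ v i) := by
    intro v i
    simp only [T, LinearEquiv.trans_apply, LinearEquiv.apply_symm_apply]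
    exact Equiv.piCongrLeft_apply_apply (fun i => AdjoinRoot (d'.P i ^ d'.e i)) σ (fun j => c j (d.φ v j)) i
  let Q : GL (Fin n) F := Matrix.GeneralLinearGroup.mkOfDetNeZero (LinearMap.toMatrix' T.toLinearMap)
    (by rw [LinearMap.det_toMatrix']; exact (LinearEquiv.isUnit_det' T).ne_zero)
  have hQ : ∀ v, (Q : Mn).mulVec v = T v := fun v => LinearMap.toMatrix'_mulVec T.toLinearMap v
  refine isConj_iff.2 ⟨Q, ?_⟩
  rw [mul_inv_eq_iff_eq_mul]
  apply Units.ext
  apply Matrix.ext_iff_mulVec.2
  intro v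
  rw [Units.val_mul, Units.val_mul, ← Matrix.mulVec_mulVec, ← Matrix.mulVec_mulVec, hQ, hQ]
  apply d'.φ.injective
  funext j
  obtain ⟨i, rfl⟩ := σ.surjective j
  rw [hT, d.map_mulVec, d'.map_mulVec, hT]
  simp only [c, AlgEquiv.toLinearEquiv_apply, map_mul, AdjoinRoot.algEquivOfEq_root]

/-- Scaling the roots by `z`. -/
noncomputable def scaleEquiv (f : F[X]) (z : Fˣ) : AdjoinRoot f ≃ₐ[F] AdjoinRoot (f.scaleRoots (z : F)) :=
  AlgEquiv.ofAlgHom
    (AdjoinRoot.liftAlgHom f (Algebra.ofId F _) ((↑z⁻¹ : F) • AdjoinRoot.root _) (by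
      have h := scaleRoots_eval₂_mul (p := f) (algebraMap F (AdjoinRoot (f.scaleRoots (z : F))))
        ((↑z⁻¹ : F) • AdjoinRoot.root _) (z : F)
      rw [← Algebra.smul_def, smul_smul, Units.mul_inv, one_smul, ← aeval_def, AdjoinRoot.aeval_eq,
        AdjoinRoot.mk_self] at h
      have hu : IsUnit ((algebraMap F (AdjoinRoot (f.scaleRoots (z : F)))) (z : F) ^ f.natDegree) :=
        (z.isUnit.map _).pow _
      exact hu.mul_right_eq_zero.1 h.symm))
    (AdjoinRoot.liftAlgHom (f.scaleRoots (z : F)) (Algebra.ofId F _) ((z : F) • AdjoinRoot.root f) (by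
      show aeval _ _ = 0
      rw [Algebra.smul_def]
      exact scaleRoots_aeval_eq_zero (by rw [AdjoinRoot.aeval_eq, AdjoinRoot.mk_self])))
    (AdjoinRoot.algHom_ext (by simp [smul_smul]))
    (AdjoinRoot.algHom_ext (by simp [smul_smul]))

theorem scaleEquiv_root (f : F[X]) (z : Fˣ) :
    scaleEquiv f z (AdjoinRoot.root f) = (↑z⁻¹ : F) • AdjoinRoot.root _ := by
  simp [scaleEquiv]

theorem irreducible_scaleRoots {f : F[X]} (hf : Irreducible f) (z : Fˣ) : Irreducible (f.scaleRoots (z : F)) := by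
  have hback : ∀ (g : F[X]) (w : Fˣ), (g.scaleRoots (w : F)).scaleRoots (↑w⁻¹ : F) = g := fun g w => by
    rw [← scaleRoots_mul, Units.mul_inv, scaleRoots_one]
  refine ⟨fun hu => hf.not_isUnit ?_, fun a b hab => ?_⟩
  · rw [isUnit_iff_degree_eq_zero] at hu ⊢
    rwa [degree_scaleRoots] at hu
  · have e : f = a.scaleRoots (↑z⁻¹ : F) * b.scaleRoots (↑z⁻¹ : F) := by
      rw [← mul_scaleRoots_of_noZeroDivisors, ← hab, hback]
    rcases hf.isUnit_or_isUnit e with h | h
    · left; rw [isUnit_iff_degree_eq_zero] at h ⊢; rwa [degree_scaleRoots] at h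
    · right; rw [isUnit_iff_degree_eq_zero] at h ⊢; rwa [degree_scaleRoots] at h

theorem IsItem.scale {it : Item F} (h : IsItem it) (z : Fˣ) : IsItem (it.1.scaleRoots (z : F), it.2) :=
  ⟨(monic_scaleRoots_iff _).2 h.monic, irreducible_scaleRoots h.irr z, by
    simp only [coeff_scaleRoots]
    exact mul_ne_zero h.coeff_ne (pow_ne_zero _ z.ne_zero), h.pos⟩

theorem scaleRoots_pow (P : F[X]) (e : ℕ) (r : F) : (P ^ e).scaleRoots r = P.scaleRoots r ^ e := by
  induction e with
  | zero => simp [one_scaleRoots]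
  | succ e ih => rw [pow_succ, mul_scaleRoots_of_noZeroDivisors, ih, pow_succ]

/-- Decomposition of a scalar multiple. -/
noncomputable def Decomp.scale {g : Mn} (d : Decomp g) (z : Fˣ) : Decomp ((z : F) • g) where
  k := d.k
  P i := (d.P i).scaleRoots (z : F)
  e := d.e
  item i := (d.item i).scale z
  φ := d.φ.trans (LinearEquiv.piCongrRight fun i => ((scaleEquiv (d.P i ^ d.e i) z).trans
    (AdjoinRoot.algEquivOfEq F _ _ (scaleRoots_pow (d.P i) (d.e i) (z : F)))).toLinearEquiv)
  map_mulVec v i := by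
    simp only [LinearEquiv.trans_apply, LinearEquiv.piCongrRight_apply, Matrix.smul_mulVec, map_smul, Pi.smul_apply,
      d.map_mulVec, AlgEquiv.toLinearEquiv_apply, map_mul, AlgEquiv.trans_apply, scaleEquiv_root,
      AdjoinRoot.algEquivOfEq_root, smul_mul_assoc, smul_smul, Units.mul_inv, one_smul]

theorem Decomp.scale_data {g : Mn} (d : Decomp g) (z : Fˣ) :
    (d.scale z).data = d.data.map fun it => (it.1.scaleRoots (z : F), it.2) := by
  rw [Decomp.data, Decomp.data, Multiset.map_map]
  rfl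

/-- The embedding of the residue field into `F[X]/(P^e)`. -/
theorem exists_residue_hom [Fintype F] {P : F[X]} (e : ℕ) (he : 1 ≤ e) :
    ∃ _ : AdjoinRoot P →ₐ[F] AdjoinRoot (P ^ e), True := by
  obtain ⟨p, hp⟩ := CharP.exists F
  obtain ⟨m, hpp, hq⟩ := FiniteField.card F p
  haveI := Fact.mk hpp
  have h0 : (AdjoinRoot.mk (P ^ e) P) ^ (Fintype.card F ^ e) = 0 := by
    rw [← map_pow, AdjoinRoot.mk_eq_zero]
    exact pow_dvd_pow P (Nat.lt_pow_self Fintype.one_lt_card).le
  refine ⟨AdjoinRoot.liftAlgHom P (Algebra.ofId F _) (AdjoinRoot.root _ ^ (Fintype.card F ^ e)) ?_, trivial⟩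
  show aeval _ _ = 0
  rw [show AdjoinRoot.root (P ^ e) ^ (Fintype.card F ^ e) = aeval (AdjoinRoot.root (P ^ e)) ((X : F[X]) ^ (Fintype.card F ^ e)) by simp, ← aeval_comp, AdjoinRoot.aeval_eq, ← expand_eq_comp_X_pow]
  have : ∀ k : ℕ, expand F (Fintype.card F ^ k) P = P ^ (Fintype.card F ^ k) := by
    intro k
    induction k with
    | zero => simp
    | succ k ih => rw [pow_succ', expand_mul, ih, map_pow, FiniteField.expand_card, ← pow_mul]
  rw [this, map_pow, h0]

theorem exists_det_lmul [Fintype F] {P : F[X]} (hP : IsItem (P, 1)) {e : ℕ} (he : 1 ≤ e) (u : Fˣ) :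
    ∃ a : AdjoinRoot (P ^ e), LinearMap.det (LinearMap.mulLeft F a) = (u : F) ^ e := by
  haveI : Fact (Irreducible P) := ⟨hP.irr⟩
  obtain ⟨σ, -⟩ := exists_residue_hom (P := P) e he
  haveI := finite_adjoinRoot hP.monic.ne_zero
  haveI : Finite (AdjoinRoot P) := Module.finite_of_finite F
  haveI := finite_adjoinRoot (pow_ne_zero e hP.monic.ne_zero)
  obtain ⟨y, hy⟩ := FiniteField.norm_surjective F (AdjoinRoot P) (u : F)
  refine ⟨σ y, ?_⟩
  letI : Algebra (AdjoinRoot P) (AdjoinRoot (P ^ e)) := σ.toRingHom.toAlgebra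
  haveI : IsScalarTower F (AdjoinRoot P) (AdjoinRoot (P ^ e)) :=
    IsScalarTower.of_algebraMap_eq fun x => (σ.commutes x).symm
  haveI : Module.Finite (AdjoinRoot P) (AdjoinRoot (P ^ e)) := Module.Finite.of_restrictScalars_finite F _ _
  have hrank : Module.finrank (AdjoinRoot P) (AdjoinRoot (P ^ e)) = e := by
    have h := Module.finrank_mul_finrank F (AdjoinRoot P) (AdjoinRoot (P ^ e))
    rw [finrank_adjoinRoot hP.monic.ne_zero, finrank_adjoinRoot (pow_ne_zero e hP.monic.ne_zero), natDegree_pow,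
      mul_comm] at h
    exact Nat.eq_of_mul_eq_mul_right hP.deg_pos h
  show Algebra.norm F (σ y) = _
  rw [← Algebra.norm_norm (S := AdjoinRoot P), show σ y = algebraMap (AdjoinRoot P) (AdjoinRoot (P ^ e)) y from rfl,
    Algebra.norm_algebraMap, hrank, map_pow, hy]

/-- Each exponent `e` gives all `e`-th powers as determinants in the centraliser. -/
theorem exists_centralizer_det [Fintype F] {g : GL (Fin n) F} (d : Decomp (g : Mn)) (i : Fin d.k) (u : Fˣ) :
    ∃ h : GL (Fin n) F, h * g = g * h ∧ Matrix.GeneralLinearGroup.det h = u ^ d.e i := by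
  classical
  obtain ⟨a, ha⟩ := exists_det_lmul (P := d.P i) ⟨(d.item i).monic, (d.item i).irr, (d.item i).coeff_ne, le_rfl⟩ (d.item i).pos u
  let f : (j : Fin d.k) → AdjoinRoot (d.P j ^ d.e j) := Function.update 1 i a
  haveI : ∀ j, Module.Finite F (AdjoinRoot (d.P j ^ d.e j)) := fun j =>
    finite_adjoinRoot (pow_ne_zero _ (d.item j).monic.ne_zero)
  let H : Mn := LinearMap.toMatrix' (d.φ.symm.toLinearMap.comp
    ((LinearMap.pi fun j => (LinearMap.mulLeft F (f j)).comp (LinearMap.proj j)).comp d.φ.toLinearMap))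
  have hH : ∀ v j, d.φ (H.mulVec v) j = f j * d.φ v j := by
    intro v j
    simp [H, LinearMap.toMatrix'_mulVec]
  have hdet : H.det = (u : F) ^ d.e i := by
    rw [det_of_diag d f hH, Finset.prod_eq_single i, show f i = a from Function.update_self _ _ _, ha]
    · intro j _ hj
      rw [show f j = 1 from Function.update_of_ne hj _ _, LinearMap.mulLeft_one, LinearMap.det_id]
    · simp
  refine ⟨Matrix.GeneralLinearGroup.mkOfDetNeZero H (by rw [hdet]; exact pow_ne_zero _ u.ne_zero), ?_, ?_⟩
  · apply Units.ext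
    apply Matrix.ext_iff_mulVec.2
    intro v
    show (H * (g : Mn)).mulVec v = ((g : Mn) * H).mulVec v
    rw [← Matrix.mulVec_mulVec, ← Matrix.mulVec_mulVec]
    apply d.φ.injective
    funext j
    rw [hH, d.map_mulVec, d.map_mulVec, hH, mul_left_comm]
  · apply Units.ext
    rw [Units.val_pow_eq_pow_val]
    exact hdet

end CfsgLib.ClassCount
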