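import Cfsg.Agent.ClassCount.Classes

set_option autoImplicit false

/-!
Numerical estimates for `fixBound` and `pslBound`.
-/

namespace CfsgLib.ClassCount

variable {q n : ℕ}

theorem detB_le_two_mul (hq : 2 ≤ q) {m : ℕ} (hm : 1 ≤ m) : detB q m ≤ 2 * q ^ (m - 1) := by
  unfold detB
  split_ifs with h
  · subst h; simp only [Nat.reduceSub, pow_one]; omega
  · exact detBound_le_two_mul hq hm

theorem T_le (hq : 2 ≤ q) (hn : 1 ≤ n) {o t : ℕ} (hot : 2 ≤ o * t) : T q n o t ≤ t * (2 * q ^ (n / 2 - 1)) := by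
  unfold T
  split_ifs with h
  · refine Nat.mul_le_mul_left t ((detB_le_two_mul hq (Nat.div_pos (Nat.le_of_dvd (by omega) h) (by omega))).trans ?_)
    exact Nat.mul_le_mul_left 2 (Nat.pow_le_pow_right (by omega)
      (Nat.sub_le_sub_right (Nat.div_le_div_left hot (by norm_num)) 1))
  · simp

theorem sum_totient_mul_le (d : ℕ) : ∑ t ∈ d.divisors, t.totient * t ≤ d * d := by
  refine (Finset.sum_le_sum fun t ht => Nat.mul_le_mul_left t.totient (Nat.divisor_le ht)).trans ?_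
  rw [← Finset.sum_mul, Nat.sum_totient]

theorem fixBound_le (hq : 2 ≤ q) (hn : 1 ≤ n) {o : ℕ} (ho : 2 ≤ o) :
    fixBound q n o ≤ Nat.gcd n (q - 1) * Nat.gcd n (q - 1) * (2 * q ^ (n / 2 - 1)) := by
  set d := Nat.gcd n (q - 1)
  calc fixBound q n o ≤ ∑ t ∈ d.divisors, t.totient * t * (2 * q ^ (n / 2 - 1)) := by
        refine Finset.sum_le_sum fun t ht => ?_
        rw [mul_assoc]
        exact Nat.mul_le_mul_left _ (T_le hq hn (le_trans ho (Nat.le_mul_of_pos_right o (Nat.pos_of_mem_divisors ht))))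
    _ ≤ _ := by
      rw [← Finset.sum_mul]
      exact Nat.mul_le_mul_right _ (sum_totient_mul_le d)

theorem one_mem_divisors_gcd (hn : 1 ≤ n) : 1 ∈ (Nat.gcd n (q - 1)).divisors :=
  Nat.one_mem_divisors.2 (Nat.gcd_pos_of_pos_left _ hn).ne'

theorem fixBound_one_le (hq : 2 ≤ q) (hn : 5 ≤ n) :
    fixBound q n 1 ≤ q ^ (n - 1) + 2 * q ^ (n - 2) +
      Nat.gcd n (q - 1) * Nat.gcd n (q - 1) * (2 * q ^ (n / 2 - 1)) := by
  set d := Nat.gcd n (q - 1)
  rw [fixBound, ← Finset.add_sum_erase _ _ (one_mem_divisors_gcd (q := q) (show 1 ≤ n by omega))]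
  refine Nat.add_le_add ?_ ?_
  · rw [Nat.totient_one, one_mul, T, if_pos (by simp), one_mul, mul_one, Nat.div_one, detB, if_neg (by omega)]
    exact detBound_le hq hn
  · calc _ ≤ ∑ t ∈ d.divisors.erase 1, t.totient * t * (2 * q ^ (n / 2 - 1)) := by
          refine Finset.sum_le_sum fun t ht => ?_
          obtain ⟨h1, h2⟩ := Finset.mem_erase.1 ht
          have := Nat.pos_of_mem_divisors h2
          rw [mul_assoc]
          exact Nat.mul_le_mul_left _ (T_le hq (by omega) (by omega))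
      _ ≤ ∑ t ∈ d.divisors, t.totient * t * (2 * q ^ (n / 2 - 1)) :=
          Finset.sum_le_sum_of_subset (Finset.erase_subset _ _)
      _ ≤ _ := by
        rw [← Finset.sum_mul]
        exact Nat.mul_le_mul_right _ (sum_totient_mul_le d)

theorem pslBound_le (hq : 2 ≤ q) (hn : 5 ≤ n) :
    pslBound q n ≤ q ^ (n - 1) + 2 * q ^ (n - 2) +
      Nat.gcd n (q - 1) * (Nat.gcd n (q - 1) * Nat.gcd n (q - 1) * (2 * q ^ (n / 2 - 1))) := by
  set d := Nat.gcd n (q - 1) with hd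
  have h1 := one_mem_divisors_gcd (q := q) (show 1 ≤ n by omega)
  rw [← hd] at h1
  have hsum := Nat.sum_totient d
  rw [← Finset.add_sum_erase _ _ h1, Nat.totient_one] at hsum
  rw [pslBound, ← hd, ← Finset.add_sum_erase _ _ h1, Nat.totient_one, one_mul]
  have hrest : ∑ o ∈ d.divisors.erase 1, o.totient * fixBound q n o ≤
      (∑ o ∈ d.divisors.erase 1, o.totient) * (d * d * (2 * q ^ (n / 2 - 1))) := by
    rw [Finset.sum_mul]
    refine Finset.sum_le_sum fun o ho => Nat.mul_le_mul_left _ ?_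
    obtain ⟨h2, h3⟩ := Finset.mem_erase.1 ho
    have := Nat.pos_of_mem_divisors h3
    exact fixBound_le hq (by omega) (by omega)
  have hfix := fixBound_one_le hq hn
  rw [← hd] at hfix
  conv_rhs => arg 2; arg 1; rw [← hsum]
  rw [add_mul, one_mul]
  omega

theorem two_mul_pow_le (hq : 2 ≤ q) (hn : 5 ≤ n) {a k : ℕ} (ha : 2 * a ≤ k * q ^ (n - 1 - n / 2)) :
    a * (2 * q ^ (n / 2 - 1)) ≤ k * q ^ (n - 2) := by
  have := Nat.mul_le_mul_right (q ^ (n / 2 - 1)) ha
  rw [mul_assoc k, ← pow_add, show n - 1 - n / 2 + (n / 2 - 1) = n - 2 by omega] at this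
  calc a * (2 * q ^ (n / 2 - 1)) = 2 * a * q ^ (n / 2 - 1) := by ring
    _ ≤ _ := this

theorem gcd_five (hq : 2 ≤ q) :
    Nat.gcd 5 (q - 1) = 1 ∨ Nat.gcd 5 (q - 1) = 5 ∧ 6 ≤ q := by
  rcases (Nat.dvd_prime Nat.prime_five).1 (Nat.gcd_dvd_left 5 (q - 1)) with h | h
  · exact Or.inl h
  · have := Nat.le_of_dvd (by omega) (h ▸ Nat.gcd_dvd_right 5 (q - 1))
    exact Or.inr ⟨h, by omega⟩

theorem SL_generic (hq : 2 ≤ q) (hq5 : n = 5 → Nat.gcd 5 (q - 1) = 5 → 8 ≤ q) (hn : 5 ≤ n) (h6 : n ≠ 6) :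
    fixBound q n 1 ≤ q ^ (n - 1) + 3 * q ^ (n - 2) := by
  have h := fixBound_one_le hq hn
  suffices hx : Nat.gcd n (q - 1) * Nat.gcd n (q - 1) * (2 * q ^ (n / 2 - 1)) ≤ 1 * q ^ (n - 2) by omega
  apply two_mul_pow_le hq hn
  rw [one_mul]
  rcases Nat.lt_or_ge n 7 with h7 | h7
  · obtain rfl : n = 5 := by omega
    simp only [Nat.reduceSub, Nat.reduceDiv]
    rcases gcd_five hq with h5 | ⟨h5, -⟩
    · rw [h5]; nlinarith
    · rw [h5]; have := hq5 rfl h5; nlinarith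
  · have hd : Nat.gcd n (q - 1) ≤ q := (Nat.le_of_dvd (by omega) (Nat.gcd_dvd_right _ _)).trans (Nat.sub_le _ _)
    calc 2 * (Nat.gcd n (q - 1) * Nat.gcd n (q - 1)) ≤ q * (q * q) :=
          Nat.mul_le_mul hq (Nat.mul_le_mul hd hd)
      _ = q ^ 3 := by ring
      _ ≤ _ := Nat.pow_le_pow_right (by omega) (by omega)

theorem PSL_generic (hq : 2 ≤ q) (hq5 : n = 5 → Nat.gcd 5 (q - 1) = 5 → 11 ≤ q) (hn : 5 ≤ n) (h6 : n ≠ 6) :
    pslBound q n ≤ q ^ (n - 1) + 5 * q ^ (n - 2) := by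
  have h := pslBound_le hq hn
  suffices hx : Nat.gcd n (q - 1) * (Nat.gcd n (q - 1) * Nat.gcd n (q - 1) * (2 * q ^ (n / 2 - 1))) ≤
      3 * q ^ (n - 2) by omega
  rw [← mul_assoc]
  apply two_mul_pow_le hq hn
  rcases Nat.lt_or_ge n 7 with h7 | h7
  · obtain rfl : n = 5 := by omega
    simp only [Nat.reduceSub, Nat.reduceDiv]
    rcases gcd_five hq with h5 | ⟨h5, -⟩
    · rw [h5]; nlinarith
    · rw [h5]; have := hq5 rfl h5; nlinarith
  · have hd : Nat.gcd n (q - 1) ≤ q := (Nat.le_of_dvd (by omega) (Nat.gcd_dvd_right _ _)).trans (Nat.sub_le _ _)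
    calc 2 * (Nat.gcd n (q - 1) * (Nat.gcd n (q - 1) * Nat.gcd n (q - 1))) ≤ 3 * (q * (q * q)) :=
          Nat.mul_le_mul (by omega) (Nat.mul_le_mul hd (Nat.mul_le_mul hd hd))
      _ = 3 * q ^ 3 := by ring
      _ ≤ _ := Nat.mul_le_mul_left 3 (Nat.pow_le_pow_right (by omega) (by omega))

theorem gcd_cases_two (hq : 2 ≤ q) : Nat.gcd 2 (q - 1) = 1 ∨ Nat.gcd 2 (q - 1) = 2 ∧ 3 ≤ q := by
  rcases (Nat.dvd_prime Nat.prime_two).1 (Nat.gcd_dvd_left 2 (q - 1)) with h | h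
  · exact Or.inl h
  · have := Nat.le_of_dvd (by omega) (h ▸ Nat.gcd_dvd_right 2 (q - 1))
    exact Or.inr ⟨h, by omega⟩

theorem SL_two (hq : 2 ≤ q) : 2 * fixBound q 2 1 ≤ 5 * q := by
  rcases gcd_cases_two hq with h | ⟨h, h3⟩
  · simp [fixBound, h, T, detB]; omega
  · simp [fixBound, h, T, detB, detBound_one, show Nat.divisors 2 = {1, 2} by decide, show Nat.totient 2 = 1 by decide]; omega

theorem PSL_two (hq : 2 ≤ q) : pslBound q 2 ≤ q + 5 := by
  rcases gcd_cases_two hq with h | ⟨h, h3⟩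
  · simp [pslBound, fixBound, h, T, detB]
  · simp [pslBound, fixBound, h, T, detB, detBound_one, show Nat.divisors 2 = {1, 2} by decide, show Nat.totient 2 = 1 by decide]

theorem gcd_cases_three (hq : 2 ≤ q) : Nat.gcd 3 (q - 1) = 1 ∨ Nat.gcd 3 (q - 1) = 3 ∧ 4 ≤ q := by
  rcases (Nat.dvd_prime Nat.prime_three).1 (Nat.gcd_dvd_left 3 (q - 1)) with h | h
  · exact Or.inl h
  · have := Nat.le_of_dvd (by omega) (h ▸ Nat.gcd_dvd_right 3 (q - 1))
    exact Or.inr ⟨h, by omega⟩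

theorem SL_three (hq : 2 ≤ q) : fixBound q 3 1 ≤ q ^ 2 + 3 * q := by
  rcases gcd_cases_three hq with h | ⟨h, h3⟩
  · simp [fixBound, h, T, detB, detBound_three]; omega
  · simp [fixBound, h, T, detB, detBound_one, detBound_three, show Nat.divisors 3 = {1, 3} by decide,
      show Nat.totient 3 = 2 by decide]; omega

theorem PSL_three (hq : 2 ≤ q) : pslBound q 3 ≤ q ^ 2 + 5 * q := by
  rcases gcd_cases_three hq with h | ⟨h, h3⟩
  · simp [pslBound, fixBound, h, T, detB, detBound_three]; omega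
  · simp [pslBound, fixBound, h, T, detB, detBound_one, detBound_three, show Nat.divisors 3 = {1, 3} by decide,
      show Nat.totient 3 = 2 by decide]; omega

theorem detBound_four_le (hq : 1 ≤ q) : detBound q 4 + 2 ≤ q ^ 3 + 2 * q ^ 2 := by
  rw [detBound_four]
  obtain ⟨r, rfl⟩ := Nat.exists_eq_add_of_le' hq
  simp only [Nat.add_sub_cancel]
  nlinarith

theorem detBound_three_le (hq : 1 ≤ q) : detBound q 3 ≤ q ^ 2 + 2 * q := by
  rw [detBound_three]; omega

theorem gcd_cases_four (hq : 2 ≤ q) :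
    Nat.gcd 4 (q - 1) = 1 ∨ (Nat.gcd 4 (q - 1) = 2 ∧ 3 ≤ q) ∨ (Nat.gcd 4 (q - 1) = 4 ∧ 5 ≤ q) := by
  have h1 := Nat.gcd_dvd_left 4 (q - 1)
  have h2 := Nat.le_of_dvd (by omega) (Nat.gcd_dvd_right 4 (q - 1))
  have hm : Nat.gcd 4 (q - 1) ∈ Nat.divisors 4 := Nat.mem_divisors.2 ⟨h1, by norm_num⟩
  rw [show Nat.divisors 4 = {1, 2, 4} by decide] at hm
  simp only [Finset.mem_insert, Finset.mem_singleton] at hm
  omega

theorem SL_four (hq : 2 ≤ q) : fixBound q 4 1 ≤ q ^ 3 + 3 * q ^ 2 := by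
  have h4 := detBound_four_le (show 1 ≤ q by omega)
  rcases gcd_cases_four hq with h | ⟨h, h3⟩ | ⟨h, h3⟩
  · simp [fixBound, h, T, detB]; nlinarith
  · simp [fixBound, h, T, detB, show Nat.divisors 2 = {1, 2} by decide, show Nat.totient 2 = 1 by decide]; nlinarith [Nat.mul_le_mul_right q h3]
  · simp [fixBound, h, T, detB, detBound_one, show Nat.divisors 4 = {1, 2, 4} by decide, show Nat.totient 2 = 1 by decide,
      show Nat.totient 4 = 2 by decide]; nlinarith

theorem PSL_four (hq : 2 ≤ q) : pslBound q 4 ≤ q ^ 3 + 5 * q ^ 2 := by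
  have h4 := detBound_four_le (show 1 ≤ q by omega)
  rcases gcd_cases_four hq with h | ⟨h, h3⟩ | ⟨h, h3⟩
  · simp [pslBound, fixBound, h, T, detB]; nlinarith
  · simp [pslBound, fixBound, h, T, detB, detBound_one, show Nat.divisors 2 = {1, 2} by decide,
      show Nat.totient 2 = 1 by decide]; nlinarith
  · simp [pslBound, fixBound, h, T, detB, detBound_one, show Nat.divisors 4 = {1, 2, 4} by decide,
      show Nat.totient 2 = 1 by decide, show Nat.totient 4 = 2 by decide]; nlinarith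

theorem gcd_cases_six (hq : 2 ≤ q) : Nat.gcd 6 (q - 1) = 1 ∨ (Nat.gcd 6 (q - 1) = 2 ∧ 3 ≤ q) ∨
    (Nat.gcd 6 (q - 1) = 3 ∧ 4 ≤ q) ∨ (Nat.gcd 6 (q - 1) = 6 ∧ 7 ≤ q) := by
  have h1 := Nat.gcd_dvd_left 6 (q - 1)
  have h2 := Nat.le_of_dvd (by omega) (Nat.gcd_dvd_right 6 (q - 1))
  have hm : Nat.gcd 6 (q - 1) ∈ Nat.divisors 6 := Nat.mem_divisors.2 ⟨h1, by norm_num⟩
  rw [show Nat.divisors 6 = {1, 2, 3, 6} by decide] at hm
  simp only [Finset.mem_insert, Finset.mem_singleton] at hm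
  omega

theorem six_aux (hq : 2 ≤ q) : detBound q 6 ≤ q ^ 5 + 2 * q ^ 4 := detBound_le hq (by norm_num)

theorem SL_six (hq : 2 ≤ q) : fixBound q 6 1 ≤ q ^ 5 + 3 * q ^ 4 := by
  have h6 := six_aux hq
  have h3' := detBound_three_le (show 1 ≤ q by omega)
  rcases gcd_cases_six hq with h | ⟨h, h3⟩ | ⟨h, h3⟩ | ⟨h, h3⟩
  · simp [fixBound, h, T, detB]; nlinarith
  · simp [fixBound, h, T, detB, show Nat.divisors 2 = {1, 2} by decide, show Nat.totient 2 = 1 by decide]
    nlinarith [Nat.pow_le_pow_left h3 2]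
  · simp [fixBound, h, T, detB, show Nat.divisors 3 = {1, 3} by decide, show Nat.totient 3 = 2 by decide]
    nlinarith [Nat.pow_le_pow_left h3 2]
  · simp [fixBound, h, T, detB, detBound_one, show Nat.divisors 6 = {1, 2, 3, 6} by decide,
      show Nat.totient 2 = 1 by decide, show Nat.totient 3 = 2 by decide, show Nat.totient 6 = 2 by decide]
    nlinarith [Nat.pow_le_pow_left h3 2]

theorem PSL_six (hq : 2 ≤ q) : pslBound q 6 ≤ q ^ 5 + 5 * q ^ 4 := by
  have h6 := six_aux hq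
  have h3' := detBound_three_le (show 1 ≤ q by omega)
  rcases gcd_cases_six hq with h | ⟨h, h3⟩ | ⟨h, h3⟩ | ⟨h, h3⟩
  · simp [pslBound, fixBound, h, T, detB]; nlinarith
  · simp [pslBound, fixBound, h, T, detB, detBound_one, show Nat.divisors 2 = {1, 2} by decide,
      show Nat.totient 2 = 1 by decide]
    nlinarith [Nat.pow_le_pow_left h3 2]
  · simp [pslBound, fixBound, h, T, detB, detBound_one, show Nat.divisors 3 = {1, 3} by decide,
      show Nat.totient 3 = 2 by decide]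
    nlinarith [Nat.pow_le_pow_left h3 2]
  · simp [pslBound, fixBound, h, T, detB, detBound_one, show Nat.divisors 6 = {1, 2, 3, 6} by decide,
      show Nat.totient 2 = 1 by decide, show Nat.totient 3 = 2 by decide, show Nat.totient 6 = 2 by decide]
    nlinarith [Nat.pow_le_pow_left h3 2]

theorem eleven_le_of_gcd_five (hq : IsPrimePow q) (h : Nat.gcd 5 (q - 1) = 5) : 11 ≤ q := by
  have hd : 5 ∣ q - 1 := h ▸ Nat.gcd_dvd_right 5 (q - 1)
  by_contra hlt
  have h6 : q = 6 := by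
    have := hq.two_le
    omega
  subst h6
  obtain ⟨p, k, hp, hk, hpk⟩ := (isPrimePow_nat_iff _).1 hq
  have h2 := (Nat.prime_dvd_prime_iff_eq Nat.prime_two hp).1 (Nat.prime_two.dvd_of_dvd_pow (hpk ▸ (by norm_num : 2 ∣ 6)))
  have h3 := (Nat.prime_dvd_prime_iff_eq Nat.prime_three hp).1 (Nat.prime_three.dvd_of_dvd_pow (hpk ▸ (by norm_num : 3 ∣ 6)))
  omega

theorem SL_bound (hq : IsPrimePow q) (hn : 3 ≤ n) : fixBound q n 1 ≤ q ^ (n - 1) + 3 * q ^ (n - 2) := by
  have h2 := hq.two_le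
  match n, hn with
  | 3, _ => simpa using SL_three h2
  | 4, _ => simpa using SL_four h2
  | 6, _ => simpa using SL_six h2
  | 5, _ => exact SL_generic h2 (fun _ h => le_trans (by norm_num) (eleven_le_of_gcd_five hq h)) le_rfl (by norm_num)
  | m + 7, _ => exact SL_generic h2 (fun h => by omega) (by omega) (by omega)

theorem PSL_bound (hq : IsPrimePow q) (hn : 2 ≤ n) : pslBound q n ≤ q ^ (n - 1) + 5 * q ^ (n - 2) := by
  have h2 := hq.two_le
  match n, hn with
  | 2, _ => simpa using PSL_two h2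
  | 3, _ => simpa using PSL_three h2
  | 4, _ => simpa using PSL_four h2
  | 6, _ => simpa using PSL_six h2
  | 5, _ => exact PSL_generic h2 (fun _ h => eleven_le_of_gcd_five hq h) le_rfl (by norm_num)
  | m + 7, _ => exact PSL_generic h2 (fun h => by omega) (by omega) (by omega)

end CfsgLib.ClassCount
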